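import Groth.Agent.Ega43.LimitDescend
import Groth.Agent.S0591

/-!
# Descending covering families along limits with affine transition maps
-/

set_option autoImplicit false
set_option backward.isDefEq.respectTransparency false
set_option backward.defeqAttrib.useBackward true
universe u

open CategoryTheory AlgebraicGeometry Limits TopologicalSpace
open Groth.Agent.Ega43.LimitDescend

namespace K973.CoverDesc

/-- One member of finite presentation with property `P` descends to a finite stage. -/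
theorem exists_descend_one {P : MorphismProperty Scheme.{u}} (hP : DescendsLim P)
    {J : Type u} [SmallCategory J] [IsCofiltered J] (E : J ⥤ Scheme.{u}) (c : Cone E)
    (hc : IsLimit c) [∀ (i j : J) (φ : i ⟶ j), IsAffineHom (E.map φ)]
    [∀ j, CompactSpace (E.obj j)] [∀ j, QuasiSeparatedSpace (E.obj j)]
    {X : Scheme.{u}} (f : X ⟶ c.pt) [LocallyOfFinitePresentation f] [QuasiCompact f]
    [QuasiSeparated f] (hf : P f) :
    ∃ (j : J) (V : Scheme.{u}) (v : V ⟶ E.obj j) (e : X ⟶ V),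
      (P v ∧ LocallyOfFinitePresentation v ∧ QuasiCompact v ∧ QuasiSeparated v) ∧
        IsPullback e f v (c.π.app j) := by
  obtain ⟨i₀, X₀, f₀, g, h1, h2, h3, hpb⟩ := Groth.Agent.S0591.result E c hc X f
  let t : ∀ j : Over i₀, (Over.forget i₀ ⋙ E).obj j ⟶ E.obj i₀ := fun j ↦ E.map j.hom
  have ht : ∀ {i j : Over i₀} (φ : i ⟶ j), (Over.forget i₀ ⋙ E).map φ ≫ t j = t i :=
    fun φ ↦ overT_w E i₀ φ
  have hp : ∀ j, (overCone c i₀).π.app j ≫ t j = c.π.app i₀ := fun j ↦ by
    simp [t]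
  have : ∀ {i j : Over i₀} (φ : i ⟶ j), IsAffineHom ((Over.forget i₀ ⋙ E).map φ) :=
    fun {i j} φ => isAffineHom_over_map E i₀ φ
  have : ∀ j : Over i₀, CompactSpace ((Over.forget i₀ ⋙ E).obj j) :=
    fun j => inferInstanceAs (CompactSpace (E.obj j.left))
  have : ∀ j : Over i₀, QuasiSeparatedSpace ((Over.forget i₀ ⋙ E).obj j) :=
    fun j => inferInstanceAs (QuasiSeparatedSpace (E.obj j.left))
  obtain ⟨j, hj⟩ := hP (Over.forget i₀ ⋙ E) (overCone c i₀) (isLimitOverCone c hc i₀) t ht f₀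
    (c.π.app i₀) hp g f hpb hf
  have i1 : LocallyOfFinitePresentation (pullback.snd f₀ (t j)) :=
    MorphismProperty.pullback_snd _ _ h1
  have i2 : QuasiCompact (pullback.snd f₀ (t j)) := MorphismProperty.pullback_snd _ _ h2
  have i3 : QuasiSeparated (pullback.snd f₀ (t j)) := MorphismProperty.pullback_snd _ _ h3
  exact ⟨j.left, pullback f₀ (t j), pullback.snd f₀ (t j), _, ⟨hj, i1, i2, i3⟩,
    isPullback_pbCone t ht f₀ (overCone c i₀) (c.π.app i₀) hp g f hpb j⟩

theorem exists_cofiltered_bound {J : Type*} [Category J] [IsCofiltered J] [Nonempty J] {n : ℕ} (j : Fin n → J) :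
    ∃ k : J, ∀ a, Nonempty (k ⟶ j a) := by
  classical
  obtain ⟨k, hk⟩ := IsCofiltered.inf_objs_exists (Finset.univ.image j)
  exact ⟨k, fun a => hk (Finset.mem_image_of_mem j (Finset.mem_univ a))⟩

/-- Covering families by open morphisms of finite presentation with a property descend. -/
theorem exists_descend_cover {P : MorphismProperty Scheme.{u}} [P.IsStableUnderBaseChange]
    (hP : DescendsLim P)
    (hopen : ∀ {X Y : Scheme.{u}} (f : X ⟶ Y), P f → LocallyOfFinitePresentation f →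
      IsOpenMap f.base)
    {I : Type u} [SmallCategory I] [IsCofiltered I]
    (D : I ⥤ Scheme.{u}) (c : Cone D) (hc : IsLimit c)
    [∀ (i j : I) (t : i ⟶ j), IsAffineHom (D.map t)] (i₀ : I) [CompactSpace (D.obj i₀)]
    [QuasiSeparatedSpace (D.obj i₀)] {ι : Type u} (U : ι → Scheme.{u}) (u : ∀ a, U a ⟶ c.pt)
    (hu : ∀ a, P (u a)) [∀ a, LocallyOfFinitePresentation (u a)] [∀ a, QuasiCompact (u a)]
    [∀ a, QuasiSeparated (u a)] (hcov : ∀ x : c.pt, ∃ (a : ι) (y : U a), (u a).base y = x) :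
    ∃ (i : I) (n : ℕ) (V : Fin n → Scheme.{u}) (v : ∀ j, V j ⟶ D.obj i) (a : Fin n → ι)
      (e : ∀ j, U (a j) ⟶ V j),
      (∀ j, P (v j) ∧ LocallyOfFinitePresentation (v j) ∧ QuasiCompact (v j) ∧
        QuasiSeparated (v j)) ∧
      (∀ x : D.obj i, ∃ (j : Fin n) (y : V j), (v j).base y = x) ∧
      ∀ j, IsPullback (e j) (u (a j)) (v j) (c.π.app i) := by
  classical
  -- pass to the slice over `i₀`
  let E := Over.forget i₀ ⋙ D
  let c' := overCone c i₀
  have hc' : IsLimit c' := isLimitOverCone c hc i₀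
  have hE₁ : ∀ (i j : Over i₀) (φ : i ⟶ j), IsAffineHom (E.map φ) :=
    fun i j φ => isAffineHom_over_map D i₀ φ
  have hE₁' : ∀ {i j : Over i₀} (φ : i ⟶ j), IsAffineHom (E.map φ) := fun {i j} φ => hE₁ i j φ
  have hE₂ : ∀ j, CompactSpace (E.obj j) := fun j => compactSpace_over_obj D i₀ j
  have hE₃ : ∀ j, QuasiSeparatedSpace (E.obj j) := fun j => quasiSeparatedSpace_over_obj D i₀ j
  have key : ∀ a, ∃ (j : Over i₀) (V : Scheme.{u}) (v : V ⟶ E.obj j) (e : U a ⟶ V),
      (P v ∧ LocallyOfFinitePresentation v ∧ QuasiCompact v ∧ QuasiSeparated v) ∧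
        IsPullback e (u a) v (c'.π.app j) := fun a =>
    exists_descend_one hP E c' hc' (u a) (hu a)
  choose j V v e hv hpb using key
  -- the limit is quasi-compact
  have hcpt : CompactSpace c.pt := by
    have h1 : IsAffineHom (c.π.app i₀) := by
      exact isAffineHom_π_app _ _ hc i₀
    exact QuasiCompact.compactSpace_of_compactSpace (c.π.app i₀)
  obtain ⟨s, hs⟩ := isCompact_univ.elim_finite_subcover
    (fun a => Set.range (u a).base) (fun a => (hopen (u a) (hu a) inferInstance).isOpen_range)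
    (fun x _ => by
      obtain ⟨a, y, hy⟩ := hcov x
      exact Set.mem_iUnion.mpr ⟨a, y, hy⟩)
  let n := s.card
  let σ : Fin n ≃ s := s.equivFin.symm
  let al : Fin n → ι := fun m => (σ m).1
  have hal : ∀ x : c.pt, ∃ (m : Fin n) (y : U (al m)), (u (al m)).base y = x := by
    intro x
    obtain ⟨a, ha⟩ := Set.mem_iUnion.mp (hs (Set.mem_univ x))
    obtain ⟨has, y, hy⟩ := Set.mem_iUnion.mp ha
    refine ⟨σ.symm ⟨a, has⟩, ?_⟩
    have : al (σ.symm ⟨a, has⟩) = a := by simp [al]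
    rw [this]
    exact ⟨y, hy⟩
  have : Nonempty (Over i₀) := ⟨Over.mk (𝟙 i₀)⟩
  obtain ⟨k, hk⟩ := exists_cofiltered_bound (fun m => j (al m))
  let φ : ∀ m, k ⟶ j (al m) := fun m => (hk m).some
  have hvo : ∀ a, IsOpen (Set.range (v a).base) := fun a =>
    (hopen (v a) (hv a).1 (hv a).2.1).isOpen_range
  let W : (E.obj k).Opens := ⨆ m, E.map (φ m) ⁻¹ᵁ ⟨Set.range (v (al m)).base, hvo _⟩
  have hW : c'.π.app k ⁻¹ᵁ W = ⊤ := by
    rw [eq_top_iff]
    intro x _
    obtain ⟨m, y, hy⟩ := hal x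
    refine TopologicalSpace.Opens.mem_iSup.mpr ⟨m, e (al m) y, ?_⟩
    rw [← hy]
    have h1 : e (al m) ≫ v (al m) = u (al m) ≫ c'.π.app k ≫ E.map (φ m) := by
      rw [c'.w]
      exact (hpb (al m)).w
    have h2 := congrArg (fun f => f.base y) h1
    exact h2
  obtain ⟨k', ψ, hψ⟩ := exists_map_eq_top E c' hc' W hW
  have hpb' : ∀ m, IsPullback (e (al m)) (u (al m)) (v (al m)) (c'.π.app k' ≫ E.map (ψ ≫ φ m)) := by
    intro m
    rw [c'.w]
    exact hpb (al m)
  have hR : ∀ m, IsPullback (pullback.fst (v (al m)) (E.map (ψ ≫ φ m)))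
      (pullback.snd (v (al m)) (E.map (ψ ≫ φ m))) (v (al m)) (E.map (ψ ≫ φ m)) :=
    fun m => IsPullback.of_hasPullback _ _
  let e' : ∀ m, U (al m) ⟶ pullback (v (al m)) (E.map (ψ ≫ φ m)) := fun m =>
    pullback.lift (e (al m)) (u (al m) ≫ c'.π.app k') (by
      rw [Category.assoc]; exact (hpb' m).w)
  refine ⟨k'.left, n, fun m => pullback (v (al m)) (E.map (ψ ≫ φ m)),
    fun m => pullback.snd (v (al m)) (E.map (ψ ≫ φ m)), al, e', ?_, ?_, ?_⟩
  · intro m
    obtain ⟨h0, h1, h2, h3⟩ := hv (al m)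
    exact ⟨MorphismProperty.pullback_snd _ _ h0, MorphismProperty.pullback_snd _ _ h1,
      MorphismProperty.pullback_snd _ _ h2, MorphismProperty.pullback_snd _ _ h3⟩
  · intro x
    have hx : x ∈ E.map ψ ⁻¹ᵁ W := by rw [hψ]; trivial
    obtain ⟨m, z, hz⟩ := TopologicalSpace.Opens.mem_iSup.mp hx
    refine ⟨m, ?_⟩
    have h1 : (E.map (ψ ≫ φ m)).base x = (v (al m)).base z := by
      rw [E.map_comp]
      exact hz.symm
    obtain ⟨w, -, hw⟩ := Scheme.Pullback.exists_preimage_pullback z x h1.symm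
    exact ⟨w, hw⟩
  · intro m
    refine IsPullback.of_right (h₁₂ := pullback.fst (v (al m)) (E.map (ψ ≫ φ m)))
      (v₁₃ := v (al m)) (h₂₂ := E.map (ψ ≫ φ m)) ?_ ?_ (hR m)
    · have h1 : e' m ≫ pullback.fst (v (al m)) (E.map (ψ ≫ φ m)) = e (al m) :=
        pullback.lift_fst _ _ _
      rw [h1]
      exact hpb' m
    · exact pullback.lift_snd _ _ _

end K973.CoverDesc
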