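import Groth.Agent.Sga3.H515.LimSmooth
import Groth.Agent.Ega43.LimitDescendOpen
import Groth.Agent.ModPair.K973.CoverDesc
import Mathlib.AlgebraicGeometry.Morphisms.Etale

/-!
# Étaleness descends along limits with affine transition maps
-/

set_option autoImplicit false
set_option backward.isDefEq.respectTransparency false
set_option backward.defeqAttrib.useBackward true
universe u

open CategoryTheory AlgebraicGeometry Limits TopologicalSpace
open Groth.Agent.Ega43.LimitDescend

namespace K973.EtaleDesc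

theorem descendsLim_inf {P Q : MorphismProperty Scheme.{u}} [P.IsStableUnderBaseChange]
    [Q.IsStableUnderBaseChange] (hP : DescendsLim P) (hQ : DescendsLim Q) :
    DescendsLim (P ⊓ Q) := by
  intro J _ _ E c hc _ _ _ B X₀ t ht f₀ _ _ _ p hp X q f hX hf
  obtain ⟨j₁, h₁⟩ := hP E c hc t ht f₀ p hp q f hX hf.1
  obtain ⟨j₂, h₂⟩ := hQ E c hc t ht f₀ p hp q f hX hf.2
  obtain ⟨k, φ₁, φ₂, -⟩ := IsCofilteredOrEmpty.cone_objs j₁ j₂
  exact ⟨k, P.of_isPullback (isPullback_pbSnd t ht f₀ φ₁) h₁,
    Q.of_isPullback (isPullback_pbSnd t ht f₀ φ₂) h₂⟩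

theorem descendsLim_etale : DescendsLim @Etale.{u} := by
  intro J _ _ E c hc _ _ _ B X₀ t ht f₀ _ _ _ p hp X q f hX hf
  have hf' : Etale f := hf
  have h2 : (MorphismProperty.diagonal @IsOpenImmersion.{u}) f := by
    change IsOpenImmersion (pullback.diagonal f)
    infer_instance
  obtain ⟨k, hk₁, hk₂⟩ := descendsLim_inf Groth.Agent.Sga3.H515.LimSmooth.descendsLim_flat
    (Groth.Agent.Ega43.LimitDescendIso.descendsLim_diagonal
      Groth.Agent.Ega43.LimitDescendOpen.descendsLim_isOpenImmersion)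
    E c hc t ht f₀ p hp q f hX ⟨inferInstanceAs (Flat f), h2⟩
  refine ⟨k, ?_⟩
  have i1 : Flat (pullback.snd f₀ (t k)) := hk₁
  have i2 : IsOpenImmersion (pullback.diagonal (pullback.snd f₀ (t k))) := hk₂
  exact Etale.of_formallyUnramified_of_flat (f := pullback.snd f₀ (t k))

end K973.EtaleDesc
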