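import Groth.Agent.ModPair.K973.Pairs
import Groth.Agent.Flat2C.BlowProper
import Groth.Agent.Flat2C.StrictTr
import Groth.Agent.Divis.BlowUpFormal

/-!
# Admissible blow-ups of modulus pairs
-/

set_option autoImplicit false
universe u

open CategoryTheory AlgebraicGeometry Limits BlowUp TopologicalSpace

namespace K973.AdmBlow

open Groth.Agent.Divis.EffCartier Groth.Agent.Divis.IdealComap

theorem notMem_support_iff {X : Scheme.{u}} {J : X.IdealSheafData} {W : X.affineOpens} {z : X}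
    (hz : z ∈ W.1) : z ∉ J.support ↔ ∃ s ∈ J.ideal W, z ∈ X.basicOpen s := by
  rw [Scheme.IdealSheafData.mem_support_iff_of_mem hz, Scheme.mem_zeroLocus_iff]
  push Not
  rfl

/-- If `E` is effective Cartier, `J` locally principal and `V(J) ⊆ V(E)`, then `J` is effective Cartier. -/
theorem isEff_of_support_subset {T : Scheme.{u}} {E J : T.IdealSheafData} (hE : IsEffCartierIdeal E)
    (hJ : ∀ x : T, ∃ U : T.affineOpens, x ∈ U.1 ∧ ∃ g, J.ideal U = Ideal.span {g})
    (h : (J.support : Set T) ⊆ E.support) : IsEffCartierIdeal J := by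
  intro x
  obtain ⟨U, hxU, g, hg⟩ := hJ x
  obtain ⟨V, hxV, hVU, e, he, hEe⟩ := exists_princAt hE x U.1 hxU
  have hg' : J.ideal V = Ideal.span {(T.presheaf.map (homOfLE hVU).op).hom g} := by
    rw [← J.map_ideal hVU, hg, Ideal.map_span, Set.image_singleton]
    rfl
  refine ⟨V, hxV, _, ?_, hg'⟩
  -- `e` is in the radical of `(g)`
  have h1 : e ∈ (Ideal.span {(T.presheaf.map (homOfLE hVU).op).hom g}).radical := by
    rw [Ideal.radical_eq_sInf, Ideal.mem_sInf]
    rintro P ⟨hP, hPp⟩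
    let z : T := V.2.fromSpec ⟨P, hPp⟩
    have hzV : z ∈ V.1 := by
      have : z ∈ Set.range V.2.fromSpec := ⟨_, rfl⟩
      rwa [V.2.range_fromSpec] at this
    have hmem : ∀ s : Γ(T, V.1), z ∈ T.basicOpen s ↔ s ∉ P := by
      intro s
      have h2 := V.2.fromSpec_preimage_basicOpen s
      have h3 : z ∈ T.basicOpen s ↔ (⟨P, hPp⟩ : Spec Γ(T, V.1)) ∈ V.2.fromSpec ⁻¹ᵁ T.basicOpen s := Iff.rfl
      rw [h3, h2]
      exact PrimeSpectrum.mem_basicOpen _ _
    by_contra heP
    have h4 : z ∉ E.support := by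
      rw [notMem_support_iff hzV]
      exact ⟨e, hEe ▸ Ideal.mem_span_singleton_self e, (hmem e).mpr heP⟩
    have h5 : z ∉ J.support := fun hz => h4 (h hz)
    rw [notMem_support_iff hzV] at h5
    obtain ⟨s, hs, hzs⟩ := h5
    rw [hg'] at hs
    exact (hmem s).mp hzs (hP hs)
  obtain ⟨n, hn⟩ := h1
  obtain ⟨r, hr⟩ := Ideal.mem_span_singleton.mp hn
  have h2 : e ^ n ∈ nonZeroDivisors Γ(T, V.1) := pow_mem he n
  rw [hr] at h2
  exact (mul_mem_nonZeroDivisors.mp h2).1

theorem locPrincipal_comap {S T : Scheme.{u}} {I : S.IdealSheafData} (hI : IsEffCartierIdeal I)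
    (b : T ⟶ S) (x : T) : ∃ U : T.affineOpens, x ∈ U.1 ∧ ∃ g, (I.comap b).ideal U = Ideal.span {g} := by
  obtain ⟨U, hU, f, -, hf⟩ := hI (b x)
  obtain ⟨V, hV, hxV, hVU⟩ := exists_isAffineOpen_mem_and_subset (U := b ⁻¹ᵁ U.1) (x := x) hU
  refine ⟨⟨V, hV⟩, hxV, (b.appLE U.1 V hVU).hom f, ?_⟩
  rw [ideal_comap I b U ⟨V, hV⟩ hVU, hf, Ideal.map_span, Set.image_singleton]

theorem isEff_comap_of_support_subset {S T : Scheme.{u}} {I E : S.IdealSheafData}
    (hI : IsEffCartierIdeal I) (b : T ⟶ S) (hE : IsEffCartierIdeal (E.comap b))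
    (h : (I.support : Set S) ⊆ E.support) : IsEffCartierIdeal (I.comap b) := by
  refine isEff_of_support_subset hE (locPrincipal_comap hI b) ?_
  intro x hx
  rw [SetLike.mem_coe, Scheme.IdealSheafData.support_comap] at hx ⊢
  exact h hx

theorem support_eq_compl_interior {S : Scheme.{u}} (I : S.IdealSheafData) :
    (I.support : Set S) = (ModPair.interior I : Set S)ᶜ := (compl_compl _).symm

/-- A blow-up in an admissible centre is an abstract admissible blow-up. -/
theorem isAdmBlowup_of_isBlowUp {S T : Scheme.{u}} {I E : S.IdealSheafData} {b : T ⟶ S}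
    (hb : IsBlowUp b E) (hE : IsAdmissibleFor (ModPair.interior I) E) :
    ModPair.IsAdmBlowup (I.comap b) I b :=
  ⟨rfl, Groth.Agent.Flat2C.BlowProper.isProper_of_isBlowUp hb hE.1,
    Groth.Agent.Divis.BlowUpFormal.isIso_morphismRestrict_compl_support hb _ hE.2.symm⟩

end K973.AdmBlow
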