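import Groth.Agent.ModPair.K973.ValPair
import Groth.Agent.Flat2E.AIC1
import Groth.Prelude.Def_Curves
import Mathlib.AlgebraicGeometry.Morphisms.Finite
import Mathlib.AlgebraicGeometry.Sites.MorphismProperty
import Mathlib.RingTheory.AdjoinRoot
import Mathlib.RingTheory.Flat.FaithfullyFlat.Basic

/-!
# Locality for finite coverings: absolutely integrally closed domains
-/

set_option autoImplicit false
universe u

open CategoryTheory AlgebraicGeometry Limits BlowUp TopologicalSpace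

namespace K973.AicSec

open Groth.Agent.Divis.EffCartier Groth.Agent.Divis.BlowChart K973.ValGlue K973.ValPair Groth.Agent.Flat2E

/-- An integral algebra over an AIC domain with a prime over `0` has a section. -/
theorem exists_section_of_prime {R E : Type u} [CommRing R] [IsDomain R] (h : AIC1.IsAIC R)
    [CommRing E] [Algebra R E] [Algebra.IsIntegral R E] (Q : Ideal E) [Q.IsPrime]
    (hQ : ∀ r : R, algebraMap R E r ∈ Q → r = 0) : Nonempty (E →ₐ[R] R) := by
  have hinj : Function.Injective (algebraMap R (E ⧸ Q)) := by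
    rw [injective_iff_map_eq_zero]
    intro r hr
    exact hQ r (Ideal.Quotient.eq_zero_iff_mem.mp hr)
  have hsurj : Function.Surjective (algebraMap R (E ⧸ Q)) := by
    intro y
    obtain ⟨x, rfl⟩ := Ideal.Quotient.mk_surjective y
    obtain ⟨p, hp, hpx⟩ := (Algebra.IsIntegral.isIntegral (R := R) x).map (Ideal.Quotient.mkₐ R Q)
    obtain ⟨s, rfl⟩ := h.splits p hp
    rw [← Polynomial.aeval_def, map_multiset_prod, Multiset.prod_eq_zero_iff,
      Multiset.mem_map] at hpx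
    obtain ⟨q, hq, hqx⟩ := hpx
    rw [Multiset.mem_map] at hq
    obtain ⟨a, -, rfl⟩ := hq
    refine ⟨a, ?_⟩
    rw [map_sub, Polynomial.aeval_X, Polynomial.aeval_C, sub_eq_zero] at hqx
    exact hqx.symm
  let e : R ≃ₐ[R] (E ⧸ Q) := AlgEquiv.ofBijective (Algebra.ofId R (E ⧸ Q)) ⟨hinj, hsurj⟩
  exact ⟨e.symm.toAlgHom.comp (Ideal.Quotient.mkₐ R Q)⟩

/-- the point of the zero ideal -/
def zp (A : Type u) [CommRing A] [IsDomain A] : Spec (CommRingCat.of A) :=
  (⟨⊥, Ideal.isPrime_bot⟩ : PrimeSpectrum A)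

theorem exists_section_spec {A : Type u} [CommRing A] [IsDomain A] (h : AIC1.IsAIC A)
    {V : Scheme.{u}} (p : V ⟶ Spec (CommRingCat.of A)) [IsFinite p] (hq : zp A ∈ Set.range p) :
    ∃ σ : Spec (CommRingCat.of A) ⟶ V, σ ≫ p = 𝟙 _ := by
  obtain ⟨y, hy⟩ := hq
  have : IsAffine V := isAffine_of_isAffineHom p
  obtain ⟨φ, hφ⟩ := Spec.map_surjective (V.isoSpec.inv ≫ p)
  have h1 : φ.hom.Finite := by
    have : IsFinite (Spec.map φ) := by rw [hφ]; infer_instance
    exact (IsFinite.SpecMap_iff _).1 this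
  algebraize [φ.hom]
  let Q := V.isoSpec.hom y
  have hQ2 : Spec.map φ Q = zp A := by
    rw [hφ, Scheme.Hom.comp_apply]
    simp [Q, hy]
  have : Q.asIdeal.IsPrime := Q.2
  obtain ⟨ψ⟩ := exists_section_of_prime (R := A) (E := Γ(V, ⊤)) h Q.asIdeal (fun r hr => by
    have h2 : r ∈ (Spec.map φ Q).asIdeal := hr
    rw [hQ2] at h2
    exact h2)
  refine ⟨Spec.map (CommRingCat.ofHom ψ.toRingHom) ≫ V.isoSpec.inv, ?_⟩
  rw [Category.assoc, ← hφ, ← Spec.map_comp, ← Spec.map_id]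
  congr 1
  ext x
  exact ψ.commutes x

/-- A morphism from an AIC integral affine scheme lifts along a finite morphism hit by the generic point. -/
theorem exists_lift_of_finite {T : Scheme.{u}} [IsAffine T] [IsDomain Γ(T, ⊤)]
    (hA : AIC1.IsAIC Γ(T, ⊤)) {Y X : Scheme.{u}} (w : Y ⟶ X) [IsFinite w] (g : T ⟶ X)
    (hy : g (T.isoSpec.inv (zp Γ(T, ⊤))) ∈ Set.range w) : ∃ h : T ⟶ Y, h ≫ w = g := by
  let g' : Spec (CommRingCat.of Γ(T, ⊤)) ⟶ X := T.isoSpec.inv ≫ g
  obtain ⟨y, hy⟩ := hy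
  obtain ⟨z, -, hz⟩ := Scheme.Pullback.exists_preimage_pullback (f := w) (g := g') y
    (zp Γ(T, ⊤)) (by rw [hy]; rfl)
  obtain ⟨σ, hσ⟩ := exists_section_spec hA (pullback.snd w g') ⟨z, hz⟩
  refine ⟨T.isoSpec.hom ≫ σ ≫ pullback.fst w g', ?_⟩
  rw [Category.assoc, Category.assoc, pullback.condition, reassoc_of% hσ]
  exact Iso.hom_inv_id_assoc _ _

/-- Locality of the total space for a class of coverings passes to pairs. -/
theorem pair_of_scheme (W : MorphismProperty Scheme.{u}) (P : ModPair.Pair.{u})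
    (h : ∀ (X : Scheme.{u}) (R : Presieve X), R ∈ Scheme.precoverage W X → ∀ g : P.total ⟶ X,
      ∃ (Y : Scheme.{u}) (w : Y ⟶ X) (h : P.total ⟶ Y), R w ∧ h ≫ w = g)
    (X : ModPair.Pair.{u}) (ι : Type u) (U : ι → ModPair.Pair.{u}) (v : ∀ i, U i ⟶ X)
    (hv : ∀ i, ModPair.IsMinimal (U i).mod X.mod (v i).hom ∧ W (v i).hom)
    (hc : ∀ x : X.total, ∃ (i : ι) (y : (U i).total), (v i).hom.base y = x) (g : P ⟶ X) :
    ∃ (i : ι) (h : P ⟶ U i), h ≫ v i = g := by
  obtain ⟨Y, w, l, hR, hl⟩ := h X.total (Presieve.ofArrows (fun i => (U i).total)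
    (fun i => (v i).hom)) (by
      rw [Scheme.ofArrows_mem_precoverage_iff]
      refine ⟨fun x => ?_, fun i => (hv i).2⟩
      obtain ⟨i, y, hy⟩ := hc x
      exact ⟨i, y, hy⟩) g.hom
  obtain ⟨i⟩ := hR
  refine ⟨i, ⟨l, ?_⟩, ModPair.Pair.Hom.ext hl⟩
  change P.mod ≤ _
  rw [show (U i).mod = _ from (hv i).1, ← Scheme.IdealSheafData.comap_comp, hl]
  exact g.cond

/-- Locality of a pair for a class of coverings passes to the total space, if inverse images of the modulus stay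
effective Cartier. -/
theorem scheme_of_pair (W : MorphismProperty Scheme.{u}) [W.IsStableUnderBaseChange]
    (P : ModPair.Pair.{u})
    (hE : ∀ (V : Scheme.{u}) (p : V ⟶ P.total), W p → IsEffCartierIdeal (P.mod.comap p))
    (h : ∀ (X : ModPair.Pair.{u}) (ι : Type u) (U : ι → ModPair.Pair.{u}) (v : ∀ i, U i ⟶ X),
      (∀ i, ModPair.IsMinimal (U i).mod X.mod (v i).hom ∧ W (v i).hom) →
      (∀ x : X.total, ∃ (i : ι) (y : (U i).total), (v i).hom.base y = x) → ∀ g : P ⟶ X,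
      ∃ (i : ι) (h : P ⟶ U i), h ≫ v i = g)
    (X : Scheme.{u}) (R : Presieve X) (hR : R ∈ Scheme.precoverage W X) (g : P.total ⟶ X) :
    ∃ (Y : Scheme.{u}) (w : Y ⟶ X) (h : P.total ⟶ Y), R w ∧ h ≫ w = g := by
  obtain ⟨𝒰, rfl⟩ : ∃ 𝒰 : Precoverage.ZeroHypercover.{max u (u + 1)} (Scheme.precoverage W) X,
      R = Presieve.ofArrows 𝒰.X 𝒰.f := by
    obtain ⟨ι, Z, f, rfl⟩ := R.exists_eq_ofArrows
    exact ⟨⟨⟨ι, Z, f⟩, hR⟩, rfl⟩
  rw [Scheme.ofArrows_mem_precoverage_iff] at hR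
  have hex : ∀ x : P.total, ∃ (j : 𝒰.I₀) (z : (pullback (𝒰.f j) g : Scheme.{u})),
      pullback.snd (𝒰.f j) g z = x := by
    intro x
    obtain ⟨j, y, hy⟩ := hR.1 (g x)
    obtain ⟨z, -, hz⟩ := Scheme.Pullback.exists_preimage_pullback (f := 𝒰.f j) (g := g) y x hy
    exact ⟨j, z, hz⟩
  choose j z hz using hex
  have hW : ∀ x, W (pullback.snd (𝒰.f (j x)) g) := fun x =>
    MorphismProperty.pullback_snd _ _ (hR.2 _)
  obtain ⟨x, l, hl⟩ := h P P.total
    (fun x => ⟨pullback (𝒰.f (j x)) g, P.mod.comap (pullback.snd (𝒰.f (j x)) g), hE _ _ (hW x)⟩)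
    (fun x => ⟨pullback.snd (𝒰.f (j x)) g, le_rfl⟩) (fun x => ⟨rfl, hW x⟩)
    (fun x => ⟨x, z x, hz x⟩) (𝟙 P)
  have hl' : l.hom ≫ pullback.snd (𝒰.f (j x)) g = 𝟙 _ := congrArg ModPair.Pair.Hom.hom hl
  refine ⟨_, 𝒰.f (j x), l.hom ≫ pullback.fst (𝒰.f (j x)) g, ⟨_⟩, ?_⟩
  rw [Category.assoc, pullback.condition, reassoc_of% hl']

/-- local for finite coverings of pairs -/
def FinLocal (P : ModPair.Pair.{u}) : Prop :=
  ∀ (X : ModPair.Pair.{u}) (ι : Type u) (U : ι → ModPair.Pair.{u}) (v : ∀ i, U i ⟶ X),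
    (∀ i, ModPair.IsMinimal (U i).mod X.mod (v i).hom ∧ IsFinite (v i).hom) →
    (∀ x : X.total, ∃ (i : ι) (y : (U i).total), (v i).hom.base y = x) →
    ∀ g : P ⟶ X, ∃ (i : ι) (h : P ⟶ U i), h ≫ v i = g

theorem sectionRing {X : Scheme.{u}} [IsAffine X] {B : CommRingCat.{u}} (φ : Γ(X, ⊤) ⟶ B)
    (h : X ⟶ Spec B) (hh : h ≫ Spec.map φ ≫ X.isoSpec.inv = 𝟙 X) :
    ∃ ψ : B ⟶ Γ(X, ⊤), φ ≫ ψ = 𝟙 _ := by
  obtain ⟨ψ, hψ⟩ := Spec.map_surjective (X.isoSpec.inv ≫ h)
  refine ⟨ψ, ?_⟩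
  apply Spec.map_injective
  rw [Spec.map_comp, hψ, Spec.map_id, ← cancel_mono X.isoSpec.inv]
  simp only [Category.assoc, hh, Category.comp_id, Category.id_comp]

theorem comap_inv {X : Scheme.{u}} [IsAffine X] {J : X.IdealSheafData} {f : Γ(X, ⊤)}
    (hJ : J.ideal ⟨⊤, isAffineOpen_top _⟩ = Ideal.span {f}) {B : Type u} [CommRing B]
    (φ : Γ(X, ⊤) →+* B) :
    J.comap (Spec.map (CommRingCat.ofHom φ) ≫ X.isoSpec.inv) = idl (Ideal.span {φ f}) := by
  have := Base.comap_map_fromSpec_span (U := ⟨⊤, isAffineOpen_top X⟩) hJ φ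
  rw [← IsAffineOpen.fromSpec_top]
  exact this

/-- `A` is a domain and AIC when the pair is local for finite coverings. -/
theorem dom_aic_of_finLocal (P : ModPair.Pair.{u}) [IsAffine P.total] [IsLocalRing Γ(P.total, ⊤)]
    (hfin : FinLocal P) : IsDomain Γ(P.total, ⊤) ∧ Curves.IsAIC Γ(P.total, ⊤) := by
  obtain ⟨f, hf, hPf⟩ := exists_span P.isEffCartier
  have hdom : IsDomain Γ(P.total, ⊤) := by
    have hE : ∀ q : minimalPrimes Γ(P.total, ⊤), IsEffCartierIdeal
        (P.mod.comap (Spec.map (CommRingCat.ofHom (Ideal.Quotient.mk q.1)) ≫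
          P.total.isoSpec.inv)) := by
      intro q
      have hq : q.1.IsPrime := q.2.1.1
      rw [comap_inv hPf]
      refine Base.isEff_idl_span (mem_nonZeroDivisors_of_ne_zero ?_)
      rw [Ne, Ideal.Quotient.eq_zero_iff_mem]
      intro h
      exact notMem_nonZeroDivisors_of_mem_mem_minimalPrimes h q.2 hf
    obtain ⟨q, l, hl⟩ := hfin P (minimalPrimes Γ(P.total, ⊤))
      (fun q => ⟨Spec (CommRingCat.of (Γ(P.total, ⊤) ⧸ q.1)), _, hE q⟩)
      (fun q => ⟨Spec.map (CommRingCat.ofHom (Ideal.Quotient.mk q.1)) ≫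
          P.total.isoSpec.inv, le_rfl⟩)
      (fun q => ⟨rfl, by
        have : IsFinite (Spec.map (CommRingCat.ofHom (Ideal.Quotient.mk q.1))) :=
          (IsFinite.SpecMap_iff _).2 (RingHom.Finite.of_surjective _ Ideal.Quotient.mk_surjective)
        change IsFinite (Spec.map (CommRingCat.ofHom (Ideal.Quotient.mk q.1)) ≫
          P.total.isoSpec.inv)
        infer_instance⟩)
      (fun x => by
        have hxp : (P.total.isoSpec.hom x).asIdeal.IsPrime := (P.total.isoSpec.hom x).2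
        obtain ⟨q, hq, hqx⟩ := Ideal.exists_minimalPrimes_le (I := ⊥)
          (J := (P.total.isoSpec.hom x).asIdeal) bot_le
        obtain ⟨y, hy⟩ : ∃ y : Spec (CommRingCat.of (Γ(P.total, ⊤) ⧸ q)),
            (Spec.map (CommRingCat.ofHom (Ideal.Quotient.mk q))) y = P.total.isoSpec.hom x := by
          have h1 : (P.total.isoSpec.hom x) ∈ Set.range
              (PrimeSpectrum.comap (Ideal.Quotient.mk q)) := by
            rw [range_comap_of_surjective _ _ Ideal.Quotient.mk_surjective,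
              Ideal.mk_ker]
            exact hqx
          exact h1
        refine ⟨⟨q, hq⟩, y, ?_⟩
        change (Spec.map (CommRingCat.ofHom (Ideal.Quotient.mk q)) ≫ P.total.isoSpec.inv) y = x
        rw [Scheme.Hom.comp_apply, hy, ← Scheme.Hom.comp_apply, Iso.hom_inv_id]; rfl) (𝟙 P)
    obtain ⟨ψ, hψ⟩ := sectionRing _ l.hom (congrArg ModPair.Pair.Hom.hom hl)
    have hq : q.1.IsPrime := q.2.1.1
    have hinj : Function.Injective (Ideal.Quotient.mk q.1) := by
      refine Function.LeftInverse.injective (g := ψ.hom) fun a => ?_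
      exact congrArg (fun χ => χ.hom a) hψ
    exact hinj.isDomain _
  refine ⟨hdom, ?_⟩
  intro p hp hdeg
  have : Module.Finite Γ(P.total, ⊤) (AdjoinRoot p) := hp.finite_adjoinRoot
  have : Module.Free Γ(P.total, ⊤) (AdjoinRoot p) := hp.free_adjoinRoot
  have hnt : Nontrivial (AdjoinRoot p) := AdjoinRoot.nontrivial p (by
    rw [Polynomial.degree_eq_natDegree hp.ne_zero]
    exact_mod_cast hdeg.ne')
  have hE : IsEffCartierIdeal (P.mod.comap (Spec.map (CommRingCat.ofHom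
      (algebraMap Γ(P.total, ⊤) (AdjoinRoot p))) ≫ P.total.isoSpec.inv)) := by
    rw [comap_inv hPf]
    exact Base.isEff_idl_span (map_mem_nonZeroDivisors_of_flat _
      (RingHom.flat_algebraMap_iff.mpr inferInstance) hf)
  obtain ⟨-, l, hl⟩ := hfin P PUnit
    (fun _ => ⟨Spec (CommRingCat.of (AdjoinRoot p)), _, hE⟩)
    (fun _ => ⟨Spec.map (CommRingCat.ofHom
      (algebraMap Γ(P.total, ⊤) (AdjoinRoot p))) ≫ P.total.isoSpec.inv, le_rfl⟩)
    (fun _ => ⟨rfl, by
      have : IsFinite (Spec.map (CommRingCat.ofHom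
          (algebraMap Γ(P.total, ⊤) (AdjoinRoot p)))) :=
        (IsFinite.SpecMap_iff _).2 (RingHom.finite_algebraMap.mpr inferInstance)
      change IsFinite (Spec.map (CommRingCat.ofHom
          (algebraMap Γ(P.total, ⊤) (AdjoinRoot p))) ≫ P.total.isoSpec.inv)
      infer_instance⟩)
    (fun x => by
      obtain ⟨y, hy⟩ : ∃ y : Spec (CommRingCat.of (AdjoinRoot p)), (Spec.map (CommRingCat.ofHom
          (algebraMap Γ(P.total, ⊤) (AdjoinRoot p)))) y = P.total.isoSpec.hom x :=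
        PrimeSpectrum.comap_surjective_of_faithfullyFlat
        (A := Γ(P.total, ⊤)) (B := AdjoinRoot p) (P.total.isoSpec.hom x)
      refine ⟨⟨⟩, y, ?_⟩
      change (Spec.map (CommRingCat.ofHom (algebraMap Γ(P.total, ⊤) (AdjoinRoot p))) ≫
        P.total.isoSpec.inv) y = x
      rw [Scheme.Hom.comp_apply, hy, ← Scheme.Hom.comp_apply, Iso.hom_inv_id]; rfl) (𝟙 P)
  obtain ⟨ψ, hψ⟩ := sectionRing _ l.hom (congrArg ModPair.Pair.Hom.hom hl)
  refine ⟨ψ.hom (AdjoinRoot.root p), ?_⟩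
  have h1 : Polynomial.eval₂ (algebraMap Γ(P.total, ⊤) (AdjoinRoot p)) (AdjoinRoot.root p) p = 0 :=
    AdjoinRoot.eval₂_root p
  have h2 := congrArg ψ.hom h1
  rw [Polynomial.hom_eval₂, map_zero] at h2
  have h3 : ψ.hom.comp (algebraMap Γ(P.total, ⊤) (AdjoinRoot p)) = RingHom.id _ :=
    congrArg CommRingCat.Hom.hom hψ
  rw [h3] at h2
  exact h2

/-- Pairs with AIC integral affine total space are local for finite coverings. -/
theorem finLocal_of_aic (P : ModPair.Pair.{u}) [IsAffine P.total] [IsDomain Γ(P.total, ⊤)]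
    (hA : Curves.IsAIC Γ(P.total, ⊤)) : FinLocal P := by
  have hA' : AIC1.IsAIC Γ(P.total, ⊤) := fun f hf hn => hA f hf (Nat.pos_of_ne_zero hn)
  intro X ι U v hv hc g
  obtain ⟨i, y, hy⟩ := hc (g.hom (P.total.isoSpec.inv (zp Γ(P.total, ⊤))))
  have := (hv i).2
  obtain ⟨l, hl⟩ := exists_lift_of_finite hA' (v i).hom g.hom ⟨y, hy⟩
  refine ⟨i, ⟨l, ?_⟩, ModPair.Pair.Hom.ext hl⟩
  change P.mod ≤ _
  rw [show (U i).mod = _ from (hv i).1, ← Scheme.IdealSheafData.comap_comp, hl]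
  exact g.cond

/-- the trivial pair on a scheme -/
theorem isEff_top (X : Scheme.{u}) : IsEffCartierIdeal (⊤ : X.IdealSheafData) := by
  intro x
  obtain ⟨V, hV, hx, -⟩ := exists_isAffineOpen_mem_and_subset (X := X) (U := ⊤) (x := x) trivial
  refine ⟨⟨V, hV⟩, hx, 1, one_mem _, ?_⟩
  rw [Ideal.span_singleton_one]
  rfl

theorem interior_dom_aic (P : ModPair.Pair.{u}) [IsAffine P.total] [IsLocalRing Γ(P.total, ⊤)]
    [IsDomain Γ(P.total, ⊤)] (hA : AIC1.IsAIC Γ(P.total, ⊤)) :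
    IsDomain Γ((ModPair.interior P.mod : Scheme.{u}), ⊤) ∧
      Curves.IsAIC Γ((ModPair.interior P.mod : Scheme.{u}), ⊤) := by
  obtain ⟨f, hf, hPf⟩ := exists_span P.isEffCartier
  rw [interior_eq_basicOpen hPf]
  have hle : Submonoid.powers f ≤ nonZeroDivisors Γ(P.total, ⊤) := by
    rintro _ ⟨n, rfl⟩; exact pow_mem hf n
  have h1 : IsDomain Γ(P.total, P.total.basicOpen f) :=
    IsLocalization.isDomain_of_le_nonZeroDivisors _ (M := Submonoid.powers f) hle
  have h2 : AIC1.IsAIC Γ(P.total, P.total.basicOpen f) := hA.of_isLocalization (Submonoid.powers f)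
  let e : Γ((P.total.basicOpen f : Scheme.{u}), ⊤) ≃+* Γ(P.total, P.total.basicOpen f) :=
    (P.total.basicOpen f).topIso.commRingCatIsoToRingEquiv
  refine ⟨e.injective.isDomain e.toRingHom, ?_⟩
  have h3 : AIC1.IsAIC Γ((P.total.basicOpen f : Scheme.{u}), ⊤) :=
    h2.of_surjective e.symm.toRingHom e.symm.surjective
  exact fun p hp hn => h3 p hp hn.ne'

end K973.AicSec
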