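import Groth.Agent.Divis.BlowChart2
import Groth.Agent.Divis.CartierCompl
import Groth.Prelude.Def_W4c6modpairsegaMP
import Mathlib.RingTheory.Valuation.LocalSubring
import Mathlib.RingTheory.Ideal.MinimalPrime.Localization

/-!
# Ideal sheaves on `Spec A` and effective Cartier ideals: basic dictionary
-/

set_option autoImplicit false
universe u

open CategoryTheory AlgebraicGeometry Limits BlowUp

namespace K973.Base

open Groth.Agent.Divis Groth.Agent.Divis.BlowChart Groth.Agent.Divis.BlowChart2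
  Groth.Agent.Divis.IdealComap

section Idl

variable {A B : Type u} [CommRing A] [CommRing B]

theorem comap_idl (φ : A →+* B) (I : Ideal A) :
    (idl I).comap (Spec.map (CommRingCat.ofHom φ)) = idl (I.map φ) := by
  refine Scheme.IdealSheafData.ext_of_isAffine ?_
  rw [ideal_comap_top]
  simp only [Scheme.IdealSheafData.ofIdealTop_ideal, Ideal.map_map]
  have e2 : ∀ (X : Scheme.{u}), (homOfLE (le_top : (⊤ : X.Opens) ≤ ⊤)).op = 𝟙 _ := fun _ => rfl
  rw [e2, e2, CategoryTheory.Functor.map_id, CategoryTheory.Functor.map_id]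
  have h : (Scheme.Hom.appTop (Spec.map (CommRingCat.ofHom φ))).hom.comp
      (Scheme.ΓSpecIso (CommRingCat.of A)).inv.hom =
      (Scheme.ΓSpecIso (CommRingCat.of B)).inv.hom.comp φ :=
    congrArg CommRingCat.Hom.hom (Scheme.ΓSpecIso_inv_naturality (CommRingCat.ofHom φ)).symm
  exact congrArg (fun ψ => I.map ψ) h

theorem idl_ideal_top (I : Ideal A) :
    (idl I).ideal ⟨⊤, isAffineOpen_top _⟩ = I.map (Scheme.ΓSpecIso (CommRingCat.of A)).inv.hom := by
  simp

theorem idl_injective : Function.Injective (idl : Ideal A → _) := by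
  intro I J h
  have h1 : (idl I).ideal ⟨⊤, isAffineOpen_top _⟩ = (idl J).ideal ⟨⊤, isAffineOpen_top _⟩ := by rw [h]
  rw [idl_ideal_top, idl_ideal_top] at h1
  exact map_injective_of_isIso _ h1

theorem idl_inj {I J : Ideal A} : idl I = idl J ↔ I = J := idl_injective.eq_iff

theorem idl_top : idl (⊤ : Ideal A) = ⊤ := by
  refine Scheme.IdealSheafData.ext_of_isAffine ?_
  rw [idl_ideal_top, Ideal.map_top]
  rfl

theorem exists_idl (J : (Spec (CommRingCat.of A)).IdealSheafData) : ∃ I : Ideal A, J = idl I := by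
  refine ⟨(J.ideal ⟨⊤, isAffineOpen_top _⟩).comap (Scheme.ΓSpecIso (CommRingCat.of A)).inv.hom, ?_⟩
  refine Scheme.IdealSheafData.ext_of_isAffine ?_
  rw [idl_ideal_top, Ideal.map_comap_of_surjective _
    (ConcreteCategory.bijective_of_isIso (Scheme.ΓSpecIso (CommRingCat.of A)).inv).2]

theorem mem_support_idl (I : Ideal A) (w : Spec (CommRingCat.of A)) :
    w ∈ (idl I).support ↔ I ≤ w.asIdeal := by
  rw [← SetLike.mem_coe, Scheme.IdealSheafData.coe_support_ofIdealTop, Spec_zeroLocus]
  change ((Scheme.ΓSpecIso (CommRingCat.of A)).inv.hom ⁻¹'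
    (I.map (Scheme.ΓSpecIso (CommRingCat.of A)).inv.hom : Ideal _) ⊆ (w.asIdeal : Set A)) ↔ _
  have h1 : (I.map (Scheme.ΓSpecIso (CommRingCat.of A)).inv.hom).comap
      (Scheme.ΓSpecIso (CommRingCat.of A)).inv.hom = I := by
    exact Ideal.comap_map_of_bijective _
      (ConcreteCategory.bijective_of_isIso (Scheme.ΓSpecIso (CommRingCat.of A)).inv)
  constructor
  · intro h r hr
    exact h (show r ∈ (I.map (Scheme.ΓSpecIso (CommRingCat.of A)).inv.hom).comap
      (Scheme.ΓSpecIso (CommRingCat.of A)).inv.hom by rw [h1]; exact hr)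
  · intro h r hr
    apply h
    rw [← h1]
    exact hr

theorem mem_interior_iff {X : Scheme.{u}} (I : X.IdealSheafData) (x : X) :
    x ∈ ModPair.interior I ↔ x ∉ I.support := Iff.rfl

theorem mem_interior_idl (I : Ideal A) (w : Spec (CommRingCat.of A)) :
    w ∈ ModPair.interior (idl I) ↔ ¬ I ≤ w.asIdeal := by
  rw [mem_interior_iff, mem_support_idl]

theorem mem_interior_idl_span (f : A) (w : Spec (CommRingCat.of A)) :
    w ∈ ModPair.interior (idl (Ideal.span {f})) ↔ f ∉ w.asIdeal := by
  rw [mem_interior_idl, Ideal.span_singleton_le_iff_mem]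

theorem isEff_idl_span {f : A} (hf : f ∈ nonZeroDivisors A) :
    IsEffCartierIdeal (idl (Ideal.span {f})) := by
  intro x
  refine ⟨⟨⊤, isAffineOpen_top _⟩, trivial, (Scheme.ΓSpecIso (CommRingCat.of A)).inv.hom f, ?_, ?_⟩
  · exact EffCartier.map_mem_nonZeroDivisors_of_flat _
      (RingHom.Flat.of_bijective
        (ConcreteCategory.bijective_of_isIso (Scheme.ΓSpecIso (CommRingCat.of A)).inv)) hf
  · rw [idl_ideal_top, Ideal.map_span, Set.image_singleton]

theorem eq_top_of_mem_closedPoint [IsLocalRing A] (U : (Spec (CommRingCat.of A)).Opens)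
    (h : IsLocalRing.closedPoint A ∈ U) : U = ⊤ := by
  refine top_le_iff.mp fun x _ => ?_
  exact (IsLocalRing.specializes_closedPoint x).mem_open U.isOpen h

/-- On the spectrum of a local ring, an effective Cartier ideal is generated by one nonzerodivisor. -/
theorem exists_span_of_isEff [IsLocalRing A] {J : (Spec (CommRingCat.of A)).IdealSheafData}
    (hJ : IsEffCartierIdeal J) : ∃ f ∈ nonZeroDivisors A, J = idl (Ideal.span {f}) := by
  obtain ⟨⟨U, hU⟩, hx, g, hg, hJg⟩ := hJ (IsLocalRing.closedPoint A)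
  obtain rfl : U = ⊤ := eq_top_of_mem_closedPoint U hx
  have hb := ConcreteCategory.bijective_of_isIso (Scheme.ΓSpecIso (CommRingCat.of A)).inv
  obtain ⟨f, hf⟩ := hb.2 g
  refine ⟨f, ?_, ?_⟩
  · rw [mem_nonZeroDivisors_iff_right]
    intro t ht
    apply hb.1
    rw [map_zero]
    refine (mem_nonZeroDivisors_iff_right.mp hg) _ ?_
    rw [← hf]
    exact (map_mul (Scheme.ΓSpecIso (CommRingCat.of A)).inv.hom t f).symm.trans (by rw [ht, map_zero])
  · refine Scheme.IdealSheafData.ext_of_isAffine ?_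
    rw [idl_ideal_top, Ideal.map_span, Set.image_singleton]
    refine hJg.trans ?_
    rw [← hf]

/-- The inverse image of an ideal sheaf along `Spec B ⟶ Spec Γ(X, U) ⟶ X`. -/
theorem comap_map_fromSpec {X : Scheme.{u}} (J : X.IdealSheafData) (U : X.affineOpens)
    (φ : Γ(X, U.1) →+* B) :
    J.comap (Spec.map (CommRingCat.ofHom φ) ≫ U.2.fromSpec) = idl ((J.ideal U).map φ) := by
  rw [Scheme.IdealSheafData.comap_comp, comap_fromSpec]
  exact comap_idl (A := Γ(X, U.1)) φ _

theorem comap_map_fromSpec_span {X : Scheme.{u}} {J : X.IdealSheafData} {U : X.affineOpens}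
    {f : Γ(X, U.1)} (hf : J.ideal U = Ideal.span {f}) (φ : Γ(X, U.1) →+* B) :
    J.comap (Spec.map (CommRingCat.ofHom φ) ≫ U.2.fromSpec) = idl (Ideal.span {φ f}) := by
  rw [comap_map_fromSpec, hf, Ideal.map_span, Set.image_singleton]

end Idl

section Val

/-- A prime ideal is dominated by a valuation ring in which a given nonzerodivisor stays nonzero. -/
theorem exists_valuationRing {A : Type u} [CommRing A] (p : Ideal A) [p.IsPrime] {f : A}
    (hf : f ∈ nonZeroDivisors A) :
    ∃ (K : Type u) (_ : Field K) (V : ValuationSubring K) (φ : A →+* V),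
      φ f ≠ 0 ∧ ∀ a ∈ p, ¬ IsUnit (φ a) := by
  classical
  obtain ⟨q, hq, hqp⟩ := Ideal.exists_minimalPrimes_le (I := ⊥) (J := p) bot_le
  have hqp' : q.IsPrime := hq.1.1
  have hfq : f ∉ q := fun h => notMem_nonZeroDivisors_of_mem_mem_minimalPrimes h hq hf
  let K := q.ResidueField
  let ψ : A →+* K := algebraMap A K
  have hψ : RingHom.ker ψ = q := Ideal.ker_algebraMap_residueField q
  have hsurj : Function.Surjective ψ.rangeRestrict := ψ.rangeRestrict_surjective
  have hMT : p.map ψ.rangeRestrict ≠ ⊤ := by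
    intro ht
    have h1 : (1 : ψ.range) ∈ p.map ψ.rangeRestrict := by rw [ht]; trivial
    obtain ⟨m, hm, hm1⟩ := (Ideal.mem_map_iff_of_surjective _ hsurj).mp h1
    have h2 : ψ (1 - m) = 0 := by
      have : ψ m = 1 := congrArg Subtype.val hm1
      rw [map_sub, map_one, this, sub_self]
    have h3 : (1 - m) ∈ p := hqp (by rw [← hψ]; exact h2)
    exact (‹p.IsPrime›).ne_top ((Ideal.eq_top_iff_one p).mpr (by simpa using p.add_mem h3 hm))
  obtain ⟨V, hV1, hV2⟩ := Ideal.image_subset_nonunits_valuationSubring _ hMT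
  refine ⟨K, inferInstance, V, ψ.codRestrict V.toSubring (fun a => hV1 ⟨a, rfl⟩), ?_, ?_⟩
  · intro h
    have : ψ f = 0 := congrArg Subtype.val h
    exact hfq (by rw [← hψ]; exact this)
  · intro a ha hu
    have h1 : ψ a ∈ V.nonunits := hV2 ⟨ψ.rangeRestrict a, Ideal.mem_map_of_mem _ ha, rfl⟩
    rw [← SetLike.mem_coe, ← V.image_maximalIdeal] at h1
    obtain ⟨b, hb, hba⟩ := h1
    exact (IsLocalRing.mem_maximalIdeal b).mp hb (by
      have : b = ψ.codRestrict V.toSubring (fun a => hV1 ⟨a, rfl⟩) a := Subtype.ext hba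
      rw [this]; exact hu)

/-- Quotient of a valuation ring by the largest prime not containing `f`. -/
theorem exists_quotient_rank_one_at {R : Type u} [CommRing R] [IsDomain R] [ValuationRing R] {f : R}
    (hf : f ≠ 0) : ∃ (S : Type u) (_ : CommRing S) (_ : IsDomain S) (_ : ValuationRing S)
      (π : R →+* S), π f ≠ 0 ∧ (∀ P : Ideal S, P.IsPrime → π f ∉ P → P = ⊥) ∧
        ∀ a, IsUnit (π a) → IsUnit a := by
  classical
  let n : Ideal R :=
    { carrier := {x | ∀ k : ℕ, ¬ x ∣ f ^ k}
      zero_mem' := by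
        intro k h
        rw [zero_dvd_iff] at h
        exact hf (pow_eq_zero_iff (n := k + 1) (Nat.succ_ne_zero k) |>.mp (by
          rw [pow_succ, h, zero_mul]))
      add_mem' := by
        intro x y hx hy k h
        rcases ValuationRing.dvd_total x y with ⟨c, rfl⟩ | ⟨c, rfl⟩
        · exact hx k ((Dvd.intro (1 + c) (by ring)).trans h)
        · exact hy k ((Dvd.intro (1 + c) (by ring)).trans h)
      smul_mem' := by
        intro c x hx k h
        exact hx k ((Dvd.intro_left c rfl).trans h) }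
  have hn : n.IsPrime := by
    refine ⟨fun h => ?_, fun {x y} hxy => ?_⟩
    · exact ((Ideal.eq_top_iff_one n).mp h) 0 (by simp)
    · by_contra! hc
      obtain ⟨h1, h2⟩ := hc
      have h1' : ∃ k, x ∣ f ^ k := by
        by_contra! hx; exact h1 hx
      have h2' : ∃ k, y ∣ f ^ k := by
        by_contra! hx; exact h2 hx
      obtain ⟨k, hk⟩ := h1'
      obtain ⟨l, hl⟩ := h2'
      exact hxy (k + l) (by rw [pow_add]; exact mul_dvd_mul hk hl)
  have hfn : f ∉ n := fun h => h 1 (by simp)
  refine ⟨R ⧸ n, inferInstance, inferInstance,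
    Function.Surjective.valuationRing (Ideal.Quotient.mk n) Ideal.Quotient.mk_surjective,
    Ideal.Quotient.mk n, ?_, ?_, ?_⟩
  · rwa [Ne, Ideal.Quotient.eq_zero_iff_mem]
  · intro P hP hfP
    rw [eq_bot_iff]
    intro x hx
    obtain ⟨x, rfl⟩ := Ideal.Quotient.mk_surjective x
    rw [Ideal.mem_bot, Ideal.Quotient.eq_zero_iff_mem]
    intro k hk
    apply hfP
    apply hP.mem_of_pow_mem k
    rw [← map_pow]
    obtain ⟨c, hc⟩ := hk
    rw [hc, map_mul]
    exact P.mul_mem_right _ hx
  · intro a ha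
    have : IsLocalHom (Ideal.Quotient.mk n) :=
      IsLocalHom.of_surjective _ Ideal.Quotient.mk_surjective
    exact IsUnit.of_map (Ideal.Quotient.mk n) a ha

end Val

end K973.Base
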