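import Groth.Agent.ModPair.K973.Pairs
import Mathlib.RingTheory.Smooth.IntegralClosure
import Mathlib.AlgebraicGeometry.Morphisms.Etale

/-!
# Integral closedness in the complement of a Cartier divisor is étale local
-/

set_option autoImplicit false
universe u

open CategoryTheory AlgebraicGeometry Limits BlowUp TopologicalSpace Opposite

namespace K973.EtClosed

open Groth.Agent.Divis.EffCartier

section Ring

open TensorProduct

theorem mem_range_of_isIntegral {R S C D : Type*} [CommRing R] [CommRing S] [CommRing C] [CommRing D]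
    [Algebra R S] [Algebra R C] [Algebra S D] [Algebra C D] [Algebra R D] [IsScalarTower R S D]
    [IsScalarTower R C D] [Algebra.Smooth R S] (f : R) [IsLocalization.Away f C]
    [IsLocalization.Away (algebraMap R S f) D]
    (h : ∀ x : C, IsIntegral R x → x ∈ Set.range (algebraMap R C)) (y : D) (hy : IsIntegral S y) :
    y ∈ Set.range (algebraMap S D) := by
  have e1 : Algebra.algebraMapSubmonoid S (Submonoid.powers f) =
      Submonoid.powers (algebraMap R S f) := Submonoid.map_powers _ _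
  have : IsLocalization (Algebra.algebraMapSubmonoid S (Submonoid.powers f)) D := by
    rw [e1]; infer_instance
  have hp : Algebra.IsPushout R S C D :=
    Algebra.isPushout_of_isLocalization (Submonoid.powers f) _ _ _
  let e := hp.equiv
  let z : S ⊗[R] C := e.symm y
  have hz : IsIntegral S z := hy.map e.symm
  obtain ⟨w, hw⟩ :=
    (TensorProduct.toIntegralClosure_bijective_of_smooth (R := R) (S := S) (B := C)).2 ⟨z, hz⟩
  have hw' : ((TensorProduct.toIntegralClosure R S C w : integralClosure S (S ⊗[R] C)) :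
      S ⊗[R] C) ∈ Set.range (algebraMap S (S ⊗[R] C)) := by
    clear hw
    induction w with
    | zero => exact ⟨0, by simp⟩
    | add x y hx hy =>
      obtain ⟨a, ha⟩ := hx
      obtain ⟨b, hb⟩ := hy
      exact ⟨a + b, by rw [map_add, ha, hb, map_add]; rfl⟩
    | tmul s c =>
      obtain ⟨r, hr⟩ := h c.1 c.2
      refine ⟨algebraMap R S r * s, ?_⟩
      change _ = s ⊗ₜ[R] (c : C)
      rw [← hr, Algebra.TensorProduct.algebraMap_apply,
        Algebra.algebraMap_eq_smul_one (R := R) (A := C),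
        TensorProduct.tmul_smul, TensorProduct.smul_tmul', Algebra.smul_def]
      rfl
  rw [hw] at hw'
  obtain ⟨s, hs⟩ := hw'
  refine ⟨s, ?_⟩
  have : e (algebraMap S (S ⊗[R] C) s) = y := by rw [hs]; exact e.apply_symm_apply y
  rw [← this, e.commutes]

end Ring

section Sec

variable {X Y : Scheme.{u}}

/-- Restriction of sections. -/
noncomputable def rs (X : Scheme.{u}) {V W : X.Opens} (h : W ≤ V) : Γ(X, V) →+* Γ(X, W) :=
  (X.presheaf.map (homOfLE h).op).hom

theorem rs_rs {V W Z : X.Opens} (h : W ≤ V) (k : Z ≤ W) (s : Γ(X, V)) :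
    rs X k (rs X h s) = rs X (k.trans h) s := by
  unfold rs
  rw [← CommRingCat.comp_apply, ← Functor.map_comp]
  rfl

theorem rs_self {V : X.Opens} (s : Γ(X, V)) : rs X (le_refl V) s = s := by
  change (X.presheaf.map (𝟙 _)).hom s = s
  rw [CategoryTheory.Functor.map_id]
  rfl

/-- The complement of an effective Cartier divisor is scheme-theoretically dense in every open. -/
theorem rs_injective {I : X.IdealSheafData} (hI : IsEffCartierIdeal I) (W : X.Opens) :
    Function.Injective (rs X (inf_le_left : W ⊓ ModPair.interior I ≤ W)) := by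
  rw [injective_iff_map_eq_zero]
  intro s hs
  have hd := Groth.Agent.Divis.CartierCompl.isSchemeTheoreticallyDominant_compl hI
  have ha := Groth.Agent.Divis.CartierCompl.isAffineHom_compl hI
  have hinj := Scheme.Hom.app_injective (Scheme.Opens.ι (X := X) I.support.compl) W
  apply hinj
  rw [map_zero]
  have e : (Scheme.Opens.ι (X := X) I.support.compl).app W =
      X.presheaf.map (homOfLE (inf_le_left : W ⊓ ModPair.interior I ≤ W)).op ≫
        X.presheaf.map (homOfLE (le_of_eq (by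
          rw [Groth.Agent.Divis.CartierCompl.image_preimage_eq, inf_comm]; rfl) :
            (Scheme.Opens.ι (X := X) I.support.compl) ''ᵁ
              (Scheme.Opens.ι (X := X) I.support.compl) ⁻¹ᵁ W ≤ W ⊓ ModPair.interior I)).op := by
    rw [Scheme.Opens.ι_app, ← Functor.map_comp]
    rfl
  rw [e]
  change (X.presheaf.map _).hom (rs X _ s) = 0
  rw [hs, map_zero]

/-- A section over the trace of an open set extends as soon as it does so locally. -/
theorem exists_of_local {I : X.IdealSheafData} (hI : IsEffCartierIdeal I) (V : X.Opens)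
    (t : Γ(X, V ⊓ ModPair.interior I))
    (hloc : ∀ y ∈ V, ∃ (W : X.Opens) (hW : W ≤ V), y ∈ W ∧ ∃ s : Γ(X, W),
      rs X (inf_le_left : W ⊓ ModPair.interior I ≤ W) s = rs X (inf_le_inf_right _ hW) t) :
    ∃ s : Γ(X, V), rs X (inf_le_left : V ⊓ ModPair.interior I ≤ V) s = t := by
  choose W hWV hyW s hs using hloc
  have hcover : V ≤ iSup fun y : V => W y.1 y.2 := fun y hy =>
    TopologicalSpace.Opens.mem_iSup.mpr ⟨⟨y, hy⟩, hyW y hy⟩
  obtain ⟨g, hg⟩ : ∃ g : Γ(X, V), ∀ y : V, rs X (hWV y.1 y.2) g = s y.1 y.2 := by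
    obtain ⟨g, hg, -⟩ := X.sheaf.existsUnique_gluing' (fun y : V => W y.1 y.2) V
      (fun y => homOfLE (hWV y.1 y.2)) hcover (fun y => s y.1 y.2) (by
        intro a b
        apply rs_injective hI
        change rs X _ (rs X (inf_le_left : W a.1 a.2 ⊓ W b.1 b.2 ≤ W a.1 a.2) (s a.1 a.2)) =
          rs X _ (rs X (inf_le_right : W a.1 a.2 ⊓ W b.1 b.2 ≤ W b.1 b.2) (s b.1 b.2))
        rw [rs_rs, rs_rs]
        have h1 := congrArg (rs X (inf_le_inf_right _ inf_le_left :
          W a.1 a.2 ⊓ W b.1 b.2 ⊓ ModPair.interior I ≤ W a.1 a.2 ⊓ ModPair.interior I)) (hs a.1 a.2)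
        have h2 := congrArg (rs X (inf_le_inf_right _ inf_le_right :
          W a.1 a.2 ⊓ W b.1 b.2 ⊓ ModPair.interior I ≤ W b.1 b.2 ⊓ ModPair.interior I)) (hs b.1 b.2)
        rw [rs_rs, rs_rs] at h1 h2
        exact h1.trans h2.symm)
    exact ⟨g, hg⟩
  refine ⟨g, ?_⟩
  refine X.sheaf.eq_of_locally_eq' (fun y : V => W y.1 y.2 ⊓ ModPair.interior I) _
    (fun y => homOfLE (inf_le_inf_right _ (hWV y.1 y.2))) ?_ _ _ ?_
  · rintro y ⟨hy, hyI⟩
    exact TopologicalSpace.Opens.mem_iSup.mpr ⟨⟨y, hy⟩, hyW y hy, hyI⟩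
  · intro y
    change rs X (inf_le_inf_right _ (hWV y.1 y.2)) (rs X _ g) = rs X (inf_le_inf_right _ (hWV y.1 y.2)) t
    rw [rs_rs, ← hs y.1 y.2, ← hg y, rs_rs]

theorem compl_inf_eq {I : X.IdealSheafData} {U : X.affineOpens} {f : Γ(X, U.1)}
    (h : I.ideal U = Ideal.span {f}) : U.1 ⊓ ModPair.interior I = X.basicOpen f := by
  rw [inf_comm]
  exact Groth.Agent.Divis.CartierCompl.compl_support_inf_eq_basicOpen I U f h

theorem isLocalization_compl {I : X.IdealSheafData} {U : X.affineOpens} {f : Γ(X, U.1)}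
    (h : I.ideal U = Ideal.span {f}) :
    letI := (rs X (inf_le_left : U.1 ⊓ ModPair.interior I ≤ U.1)).toAlgebra
    IsLocalization.Away f Γ(X, U.1 ⊓ ModPair.interior I) :=
  U.2.isLocalization_of_eq_basicOpen f (homOfLE inf_le_left) (compl_inf_eq h)

end Sec

section Main

variable {X Y : Scheme.{u}}

theorem integrallyClosed_of_etale {IX : X.IdealSheafData} (hX : IsEffCartierIdeal IX)
    (hint : ∀ U : X.affineOpens, ∀ s : Γ(X, U.1 ⊓ ModPair.interior IX),
      (rs X (inf_le_left : U.1 ⊓ ModPair.interior IX ≤ U.1)).IsIntegralElem s →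
        s ∈ Set.range (rs X (inf_le_left : U.1 ⊓ ModPair.interior IX ≤ U.1)))
    (g : Y ⟶ X) [Etale g] (V : Y.Opens) (t : Γ(Y, V ⊓ ModPair.interior (IX.comap g)))
    (ht : (rs Y (inf_le_left : V ⊓ ModPair.interior (IX.comap g) ≤ V)).IsIntegralElem t) :
    ∃ s : Γ(Y, V), rs Y (inf_le_left : V ⊓ ModPair.interior (IX.comap g) ≤ V) s = t := by
  have hJ : IsEffCartierIdeal (IX.comap g) := isEff_comap_flat hX g
  refine exists_of_local hJ V t fun y hy => ?_
  obtain ⟨U, hU, f, hf, hIf⟩ := hX (g y)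
  obtain ⟨W, hW, hyW, hWV⟩ := exists_isAffineOpen_mem_and_subset (U := V ⊓ g ⁻¹ᵁ U.1) (x := y) ⟨hy, hU⟩
  have hWV' : W ≤ V := fun _ h => (hWV h).1
  have hWU : W ≤ g ⁻¹ᵁ U.1 := fun _ h => (hWV h).2
  refine ⟨W, hWV', hyW, ?_⟩
  have hJf : (IX.comap g).ideal ⟨W, hW⟩ = Ideal.span {(g.appLE U.1 W hWU).hom f} := by
    rw [Groth.Agent.Divis.IdealComap.ideal_comap IX g U ⟨W, hW⟩ hWU, hIf, Ideal.map_span,
      Set.image_singleton]
  let IY := IX.comap g
  have hle : W ⊓ ModPair.interior IY ≤ g ⁻¹ᵁ (U.1 ⊓ ModPair.interior IX) := by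
    rintro z ⟨hz, hz'⟩
    refine ⟨hWU hz, ?_⟩
    have h2 : z ∈ ModPair.interior (IX.comap g) := hz'
    rw [K973.Pairs.interior_comap] at h2
    exact h2
  -- the square of rings
  let ρ : Γ(X, U.1) →+* Γ(Y, W) := (g.appLE U.1 W hWU).hom
  let ρ' : Γ(X, U.1 ⊓ ModPair.interior IX) →+* Γ(Y, W ⊓ ModPair.interior IY) :=
    (g.appLE (U.1 ⊓ ModPair.interior IX) (W ⊓ ModPair.interior IY) hle).hom
  have hsq : ρ'.comp (rs X (inf_le_left : U.1 ⊓ ModPair.interior IX ≤ U.1)) =
      (rs Y (inf_le_left : W ⊓ ModPair.interior IY ≤ W)).comp ρ := by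
    have : X.presheaf.map (homOfLE (inf_le_left : U.1 ⊓ ModPair.interior IX ≤ U.1)).op ≫
        g.appLE (U.1 ⊓ ModPair.interior IX) (W ⊓ ModPair.interior IY) hle =
        g.appLE U.1 W hWU ≫
          Y.presheaf.map (homOfLE (inf_le_left : W ⊓ ModPair.interior IY ≤ W)).op := by
      rw [Scheme.Hom.map_appLE, Scheme.Hom.appLE_map]
    exact congrArg CommRingCat.Hom.hom this
  have hét : ρ.Smooth := by
    have h1 : Smooth g := inferInstance
    exact (HasRingHomProperty.appLE (P := @Smooth) g h1 U ⟨W, hW⟩ hWU)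
  let := ρ.toAlgebra
  let := (rs X (inf_le_left : U.1 ⊓ ModPair.interior IX ≤ U.1)).toAlgebra
  let := (rs Y (inf_le_left : W ⊓ ModPair.interior IY ≤ W)).toAlgebra
  let := ρ'.toAlgebra
  let := ((rs Y (inf_le_left : W ⊓ ModPair.interior IY ≤ W)).comp ρ).toAlgebra
  have : IsScalarTower Γ(X, U.1) Γ(Y, W) Γ(Y, W ⊓ ModPair.interior IY) :=
    IsScalarTower.of_algebraMap_eq fun _ => rfl
  have : IsScalarTower Γ(X, U.1) Γ(X, U.1 ⊓ ModPair.interior IX) Γ(Y, W ⊓ ModPair.interior IY) :=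
    IsScalarTower.of_algebraMap_eq fun x => (congrArg (fun φ => φ x) hsq).symm
  have : Algebra.Smooth Γ(X, U.1) Γ(Y, W) := hét
  have : IsLocalization.Away f Γ(X, U.1 ⊓ ModPair.interior IX) := isLocalization_compl hIf
  have : IsLocalization.Away (algebraMap Γ(X, U.1) Γ(Y, W) f) Γ(Y, W ⊓ ModPair.interior IY) :=
    isLocalization_compl (U := ⟨W, hW⟩) hJf
  refine mem_range_of_isIntegral (R := Γ(X, U.1)) (S := Γ(Y, W)) (C := Γ(X, U.1 ⊓ ModPair.interior IX))
    f (fun x hx => hint U x hx) _ ?_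
  obtain ⟨P, hP, hPt⟩ := ht
  refine ⟨P.map (rs Y hWV'), hP.map _, ?_⟩
  rw [Polynomial.eval₂_map]
  have e : (algebraMap Γ(Y, W) Γ(Y, W ⊓ ModPair.interior IY)).comp (rs Y hWV') =
      (rs Y (inf_le_inf_right _ hWV' : W ⊓ ModPair.interior IY ≤ V ⊓ ModPair.interior IY)).comp
        (rs Y (inf_le_left : V ⊓ ModPair.interior IY ≤ V)) := by
    ext x
    change rs Y _ (rs Y _ x) = rs Y _ (rs Y _ x)
    rw [rs_rs, rs_rs]
  rw [e, ← Polynomial.hom_eval₂, hPt, map_zero]

end Main

end K973.EtClosed
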