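import Groth.Agent.ModPair.K973.ValAlg
import Mathlib.RingTheory.Henselian
import Mathlib.Algebra.Polynomial.Taylor

/-!
# If `A = A/q ×_{k(q)} A_q` with `A` henselian then `A_q` is henselian
-/

set_option autoImplicit false

universe u

open Polynomial

namespace K973.HensGlue

/-- The reversed polynomial used to find roots of `c₀ + u x + …` with `c₀` in the ideal. -/
noncomputable def revPoly {A : Type u} [CommRing A] (d : ℕ) (H : ℕ → A) : A[X] :=
  X ^ (d + 1) + (X ^ d + ∑ j ∈ Finset.range d, C (H j) * X ^ j)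

theorem revPoly_monic {A : Type u} [CommRing A] (d : ℕ) (H : ℕ → A) :
    (revPoly d H).Monic := by
  nontriviality A
  refine monic_X_pow_add (n := d + 1) ?_
  refine lt_of_le_of_lt (degree_add_le _ _) (max_lt ?_ ?_)
  · rw [degree_X_pow]; exact_mod_cast Nat.lt_succ_self d
  · refine lt_of_le_of_lt (degree_sum_le _ _) ?_
    refine (Finset.sup_lt_iff (WithBot.bot_lt_coe _)).mpr fun j hj => ?_
    refine lt_of_le_of_lt (degree_C_mul_X_pow_le _ _) ?_
    exact_mod_cast (Finset.mem_range.mp hj).trans (Nat.lt_succ_self d)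

theorem exists_root {A : Type u} [CommRing A] [HenselianLocalRing A] (d : ℕ) (H : ℕ → A)
    (hH : ∀ j < d, H j ∈ IsLocalRing.maximalIdeal A) : ∃ z : A, IsUnit z ∧
      z ^ (d + 1) + (z ^ d + ∑ j ∈ Finset.range d, H j * z ^ j) = 0 := by
  have hsum : ∀ g : ℕ → A, ∑ j ∈ Finset.range d, H j * g j ∈ IsLocalRing.maximalIdeal A := fun g =>
    sum_mem fun j hj => Ideal.mul_mem_right _ _ (hH j (Finset.mem_range.mp hj))
  obtain ⟨z, hz, hz2⟩ := HenselianLocalRing.is_henselian (revPoly d H) (revPoly_monic d H) (-1) (by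
    have : (revPoly d H).eval (-1) = ∑ j ∈ Finset.range d, H j * (-1) ^ j := by
      simp only [revPoly, eval_add, eval_pow, eval_X, eval_finset_sum, eval_mul, eval_C]
      rw [pow_succ]; ring
    rw [this]
    exact hsum _) (by
    have h1 : (revPoly d H).derivative.eval (-1) = (-1) ^ d +
        ∑ j ∈ Finset.range d, H j * (j * (-1) ^ (j - 1)) := by
      simp only [revPoly, derivative_add, derivative_X_pow, derivative_sum, derivative_C_mul,
        eval_add, eval_mul, eval_pow, eval_X, eval_finset_sum, eval_C, eval_natCast]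
      rcases d with _ | d
      · simp
      · simp only [Nat.add_sub_cancel]
        push_cast
        rw [pow_succ]; ring
    rw [h1]
    by_contra hu
    have h2 : (-1 : A) ^ d ∈ IsLocalRing.maximalIdeal A :=
      (Ideal.add_mem_iff_left _ (hsum _)).mp ((IsLocalRing.mem_maximalIdeal _).mpr hu)
    exact (IsLocalRing.mem_maximalIdeal _).mp h2 (IsUnit.pow _ isUnit_one.neg))
  refine ⟨z, ?_, ?_⟩
  · by_contra hu
    have h1 : z ∈ IsLocalRing.maximalIdeal A := (IsLocalRing.mem_maximalIdeal _).mpr hu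
    have h2 := sub_mem h1 hz2
    rw [sub_sub_cancel] at h2
    exact (IsLocalRing.mem_maximalIdeal _).mp h2 isUnit_one.neg
  · have := hz
    rw [IsRoot.def] at this
    simpa only [revPoly, eval_add, eval_pow, eval_X, eval_finset_sum, eval_mul, eval_C] using this

theorem henselian_localization (A : Type u) [CommRing A] [HenselianLocalRing A] (q : Ideal A)
    [q.IsPrime]
    (h : Set.BijOn (algebraMap A (Localization.AtPrime q)) (q : Set A)
      (IsLocalRing.maximalIdeal (Localization.AtPrime q) : Set (Localization.AtPrime q))) :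
    HenselianLocalRing (Localization.AtPrime q) := by
  set B := Localization.AtPrime q with hB
  constructor
  intro f hf a₀ h0 h1
  obtain ⟨u, hu⟩ := h1
  set g := taylor a₀ f with hg
  have hg0 : g.coeff 0 = f.eval a₀ := by rw [hg, taylor_coeff_zero]
  have hg1 : g.coeff 1 = (u : B) := by rw [hg, taylor_coeff_one, hu]
  have hgdeg : g.natDegree = f.natDegree := natDegree_taylor _ _
  have hd : 1 ≤ g.natDegree := by
    by_contra hlt
    have h2 : g.natDegree = 0 := by omega
    rw [hgdeg, hf.natDegree_eq_zero] at h2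
    rw [h2, eval_one] at h0
    exact (IsLocalRing.mem_maximalIdeal _).mp h0 isUnit_one
  obtain ⟨d, hd'⟩ : ∃ d, g.natDegree = d + 1 := ⟨g.natDegree - 1, by omega⟩
  -- coefficients: `c = c₀ / u`
  set c : B := ((u⁻¹ : Bˣ) : B) * g.coeff 0 with hc
  have hcm : c ∈ IsLocalRing.maximalIdeal B := Ideal.mul_mem_left _ _ (hg0 ▸ h0)
  have hc0 : g.coeff 0 = (u : B) * c := by rw [hc, Units.mul_inv_cancel_left]
  -- `H j` for `j < d` is the coefficient of `z ^ j`, i.e. of `y ^ (d + 1 - j)`
  have hHex : ∀ j : ℕ, ∃ H : A, H ∈ IsLocalRing.maximalIdeal A ∧ (j < d →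
      algebraMap A B H = ((u⁻¹ : Bˣ) : B) * g.coeff (d + 1 - j) * c ^ (d - j)) := by
    intro j
    by_cases hj : j < d
    · have h2 : ((u⁻¹ : Bˣ) : B) * g.coeff (d + 1 - j) * c ^ (d - j) ∈
          IsLocalRing.maximalIdeal B :=
        Ideal.mul_mem_left _ _ (Ideal.pow_mem_of_mem _ hcm _ (by omega))
      obtain ⟨H, hH, hH2⟩ := h.surjOn h2
      exact ⟨H, IsLocalRing.le_maximalIdeal (Ideal.IsPrime.ne_top inferInstance) hH, fun _ => hH2⟩
    · exact ⟨0, zero_mem _, fun hh => absurd hh hj⟩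
  choose H hH hH2 using hHex
  obtain ⟨z, hz, hz2⟩ := exists_root d H (fun j _ => hH j)
  obtain ⟨w, hw⟩ := hz.map (algebraMap A B)
  have hz3 := congrArg (algebraMap A B) hz2
  rw [map_zero, map_add, map_add, map_pow, map_pow, map_sum, ← hw] at hz3
  refine ⟨a₀ + c * ((w⁻¹ : Bˣ) : B), ?_, ?_⟩
  · rw [IsRoot.def, add_comm, ← taylor_eval, ← hg, eval_eq_sum_range, hd',
      Finset.sum_range_succ', Finset.sum_range_succ', zero_add, hg1, hc0]
    have h4 : ∑ j ∈ Finset.range d, (algebraMap A B) (H j * z ^ j) =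
        ∑ k ∈ Finset.range d, ((u⁻¹ : Bˣ) : B) * g.coeff (k + 1 + 1) * c ^ (k + 1) *
          (w : B) ^ (d - 1 - k) := by
      rw [← Finset.sum_range_reflect]
      refine Finset.sum_congr rfl fun k hk => ?_
      have hk' := Finset.mem_range.mp hk
      rw [map_mul, hH2 _ (by omega), map_pow, ← hw,
        show d + 1 - (d - 1 - k) = k + 1 + 1 by omega, show d - (d - 1 - k) = k + 1 by omega]
    rw [h4] at hz3
    have h5 : ((w : B) ^ (d + 1)) * (∑ k ∈ Finset.range d,
        g.coeff (k + 1 + 1) * (c * ((w⁻¹ : Bˣ) : B)) ^ (k + 1 + 1) +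
          (u : B) * (c * ((w⁻¹ : Bˣ) : B)) ^ 1 + (u : B) * c * (c * ((w⁻¹ : Bˣ) : B)) ^ 0) = 0 := by
      have h6 : ∀ k ∈ Finset.range d, (w : B) ^ (d + 1) *
          (g.coeff (k + 1 + 1) * (c * ((w⁻¹ : Bˣ) : B)) ^ (k + 1 + 1)) =
          (u : B) * c * (((u⁻¹ : Bˣ) : B) * g.coeff (k + 1 + 1) * c ^ (k + 1) *
          (w : B) ^ (d - 1 - k)) := by
        intro k hk
        have hk' := Finset.mem_range.mp hk
        have e1 : (w : B) ^ (d + 1) = (w : B) ^ (d - 1 - k) * (w : B) ^ (k + 1 + 1) := by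
          rw [← pow_add]; congr 1; omega
        have e2 : (w : B) ^ (k + 1 + 1) * ((w⁻¹ : Bˣ) : B) ^ (k + 1 + 1) = 1 := by
          rw [← mul_pow, Units.mul_inv, one_pow]
        have e3 : (u : B) * ((u⁻¹ : Bˣ) : B) = 1 := Units.mul_inv _
        rw [e1, mul_pow]
        linear_combination ((w : B) ^ (d - 1 - k) * g.coeff (k + 1 + 1) * c ^ (k + 1 + 1)) * e2 -
          (c * g.coeff (k + 1 + 1) * c ^ (k + 1) * (w : B) ^ (d - 1 - k)) * e3
      rw [mul_add, mul_add, Finset.mul_sum, Finset.sum_congr rfl h6, ← Finset.mul_sum]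
      have e2 : (w : B) * ((w⁻¹ : Bˣ) : B) = 1 := Units.mul_inv _
      have e4 : (w : B) ^ (d + 1) * ((u : B) * (c * ((w⁻¹ : Bˣ) : B)) ^ 1) =
          (u : B) * c * (w : B) ^ d := by
        rw [pow_succ, pow_one]
        linear_combination ((w : B) ^ d * (u : B) * c) * e2
      rw [e4, pow_zero, mul_one]
      linear_combination ((u : B) * c) * hz3
    exact ((w.isUnit.pow (d + 1)).mul_right_eq_zero).mp h5
  · rw [add_sub_cancel_left]
    exact Ideal.mul_mem_right _ _ hcm

end K973.HensGlue
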