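import Groth.Agent.ModPair.K973.AicSec
import Groth.Agent.ModPair.K973.HensGlue
import Groth.Agent.Proet.Retract
import Groth.Agent.Proet.SHEquiv
import Groth.Agent.Pi1C.StrictHensPoint
import Groth.Agent.Etbase.QuotHens
import Mathlib.AlgebraicGeometry.Morphisms.Etale

/-!
# Pairs local for etale coverings
-/

set_option autoImplicit false
universe u

open CategoryTheory AlgebraicGeometry Limits BlowUp TopologicalSpace

namespace K973.EtPair

open Groth.Agent.Divis.EffCartier Groth.Agent.Divis.BlowChart K973.ValGlue K973.ValPair K973.AicSec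

/-- local for etale coverings of pairs -/
def EtLocal (P : ModPair.Pair.{u}) : Prop :=
  ∀ (X : ModPair.Pair.{u}) (ι : Type u) (U : ι → ModPair.Pair.{u}) (v : ∀ i, U i ⟶ X),
    (∀ i, ModPair.IsMinimal (U i).mod X.mod (v i).hom ∧ Etale (v i).hom ∧
      QuasiCompact (v i).hom ∧ QuasiSeparated (v i).hom) →
    (∀ x : X.total, ∃ (i : ι) (y : (U i).total), (v i).hom.base y = x) →
    ∀ g : P ⟶ X, ∃ (i : ι) (h : P ⟶ U i), h ≫ v i = g

theorem zarLocal_of_etLocal (P : ModPair.Pair.{u}) (h : EtLocal P) : ZarLocal P := by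
  intro X ι U v hv hc g
  refine h X ι U v (fun i => ?_) hc g
  have h1 : IsOpenImmersion (v i).hom := (hv i).2.1
  exact ⟨(hv i).1, inferInstance, (hv i).2.2, inferInstance⟩

/-- If `P` is affine and local for a class of flat coverings, a faithfully flat algebra of this class has a
retraction. -/
theorem exists_retraction (P : ModPair.Pair.{u}) [IsAffine P.total] [IsLocalRing Γ(P.total, ⊤)]
    (W : MorphismProperty Scheme.{u})
    (h : ∀ (X : ModPair.Pair.{u}) (ι : Type u) (U : ι → ModPair.Pair.{u}) (v : ∀ i, U i ⟶ X),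
      (∀ i, ModPair.IsMinimal (U i).mod X.mod (v i).hom ∧ W (v i).hom) →
      (∀ x : X.total, ∃ (i : ι) (y : (U i).total), (v i).hom.base y = x) →
      ∀ g : P ⟶ X, ∃ (i : ι) (h : P ⟶ U i), h ≫ v i = g)
    (B : Type u) [CommRing B] [Algebra Γ(P.total, ⊤) B] [Module.FaithfullyFlat Γ(P.total, ⊤) B]
    (hW : W (Spec.map (CommRingCat.ofHom (algebraMap Γ(P.total, ⊤) B)) ≫ P.total.isoSpec.inv)) :
    Nonempty (B →ₐ[Γ(P.total, ⊤)] Γ(P.total, ⊤)) := by
  obtain ⟨f, hf, hPf⟩ := exists_span P.isEffCartier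
  have hE : IsEffCartierIdeal (P.mod.comap (Spec.map (CommRingCat.ofHom
      (algebraMap Γ(P.total, ⊤) B)) ≫ P.total.isoSpec.inv)) := by
    rw [comap_inv hPf]
    exact Base.isEff_idl_span (map_mem_nonZeroDivisors_of_flat _
      (RingHom.flat_algebraMap_iff.mpr inferInstance) hf)
  obtain ⟨-, l, hl⟩ := h P PUnit
    (fun _ => ⟨Spec (CommRingCat.of B), _, hE⟩)
    (fun _ => ⟨Spec.map (CommRingCat.ofHom
      (algebraMap Γ(P.total, ⊤) B)) ≫ P.total.isoSpec.inv, le_rfl⟩)
    (fun _ => ⟨rfl, hW⟩)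
    (fun x => by
      obtain ⟨y, hy⟩ : ∃ y : Spec (CommRingCat.of B), (Spec.map (CommRingCat.ofHom
          (algebraMap Γ(P.total, ⊤) B))) y = P.total.isoSpec.hom x :=
        PrimeSpectrum.comap_surjective_of_faithfullyFlat
        (A := Γ(P.total, ⊤)) (B := B) (P.total.isoSpec.hom x)
      refine ⟨⟨⟩, y, ?_⟩
      change (Spec.map (CommRingCat.ofHom (algebraMap Γ(P.total, ⊤) B)) ≫
        P.total.isoSpec.inv) y = x
      rw [Scheme.Hom.comp_apply, hy, ← Scheme.Hom.comp_apply, Iso.hom_inv_id]; rfl) (𝟙 P)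
  obtain ⟨ψ, hψ⟩ := sectionRing _ l.hom (congrArg ModPair.Pair.Hom.hom hl)
  exact ⟨{ ψ.hom with commutes' := fun a => congrArg (fun χ => χ.hom a) hψ }⟩

/-- An etale-local pair with affine local total space has strictly henselian ring. -/
theorem strictlyHenselian_of_etLocal (P : ModPair.Pair.{u}) [IsAffine P.total]
    [IsLocalRing Γ(P.total, ⊤)] (h : EtLocal P) :
    EtCoh.IsStrictlyHenselianLocalRing Γ(P.total, ⊤) := by
  have hret : ProEtW.HasEtaleRetractions Γ(P.total, ⊤) := by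
    intro B _ _ hff het
    refine exists_retraction P (fun _ _ f => Etale f ∧ QuasiCompact f ∧ QuasiSeparated f) h B ?_
    have h1 : Etale (Spec.map (CommRingCat.ofHom (algebraMap Γ(P.total, ⊤) B))) :=
      (HasRingHomProperty.Spec_iff (P := @Etale)).2 (RingHom.etale_algebraMap.mpr het)
    exact ⟨inferInstance, inferInstance, inferInstance⟩
  have h1 := Groth.Agent.Proet.Retract.strictlyHenselian_localization hret
    (IsLocalRing.maximalIdeal Γ(P.total, ⊤))
  refine Groth.Agent.Proet.SHEquiv.isStrictlyHenselian_of_ringEquiv ?_ h1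
  exact (IsLocalization.atUnits Γ(P.total, ⊤)
    (IsLocalRing.maximalIdeal Γ(P.total, ⊤)).primeCompl
    (S := Localization.AtPrime (IsLocalRing.maximalIdeal Γ(P.total, ⊤))) (fun x hx => by
      by_contra hu
      exact hx ((IsLocalRing.mem_maximalIdeal _).mpr hu))).symm.toRingEquiv

theorem etLocal_of_strictlyHenselian (P : ModPair.Pair.{u}) [IsAffine P.total]
    (h : EtCoh.IsStrictlyHenselianLocalRing Γ(P.total, ⊤)) : EtLocal P := by
  obtain ⟨h1, h2⟩ := h
  intro X ι U v hv hc g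
  obtain ⟨i, y, hy⟩ := hc (g.hom (cpt P.total))
  have h3 : Etale (v i).hom := (hv i).2.1
  obtain ⟨t, ht, -⟩ := Groth.Agent.Pi1C.StrictHensPoint.exists_lift_of_etale (v i).hom y
    Γ(P.total, ⊤) (P.total.isoSpec.inv ≫ g.hom) hy.symm
  have hl : (P.total.isoSpec.hom ≫ t) ≫ (v i).hom = g.hom := by
    rw [Category.assoc, ht, Iso.hom_inv_id_assoc]
  refine ⟨i, ⟨P.total.isoSpec.hom ≫ t, ?_⟩, ModPair.Pair.Hom.ext hl⟩
  change P.mod ≤ _
  rw [show (U i).mod = _ from (hv i).1, ← Scheme.IdealSheafData.comap_comp, hl]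
  exact g.cond

theorem exists_dvd_pow_of_notMem (P : ModPair.Pair.{u}) [IsAffine P.total]
    [IsAffine (ModPair.interior P.mod : Scheme.{u})]
    [IsLocalRing Γ((ModPair.interior P.mod : Scheme.{u}), ⊤)]
    {f : Γ(P.total, ⊤)} (hint : ModPair.interior P.mod = P.total.basicOpen f)
    (a : Γ(P.total, ⊤)) (ha : a ∉ prm ((ModPair.interior P.mod).ι.base
      (cpt (ModPair.interior P.mod : Scheme.{u})))) : ∃ n : ℕ, a ∣ f ^ n := by
  rw [notMem_prm] at ha
  refine exists_dvd_pow_of_basicOpen_le ?_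
  rw [← hint]
  intro x hx
  have h1 : (⟨x, hx⟩ : (ModPair.interior P.mod : Scheme.{u})) ⤳
      cpt (ModPair.interior P.mod : Scheme.{u}) :=
    specializes_cpt (X := (ModPair.interior P.mod : Scheme.{u})) ⟨x, hx⟩
  have h2 : cpt (ModPair.interior P.mod : Scheme.{u}) ∈
    (ModPair.interior P.mod).ι ⁻¹ᵁ P.total.basicOpen a := ha
  exact h1.mem_open ((ModPair.interior P.mod).ι ⁻¹ᵁ P.total.basicOpen a).isOpen h2

/-- The ring of the interior is the localization at the prime of its closed point. -/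
theorem nonempty_equiv (P : ModPair.Pair.{u}) [IsAffine P.total] [IsLocalRing Γ(P.total, ⊤)]
    [IsAffine (ModPair.interior P.mod : Scheme.{u})]
    [IsLocalRing Γ((ModPair.interior P.mod : Scheme.{u}), ⊤)] :
    Nonempty (Localization.AtPrime (prm ((ModPair.interior P.mod).ι.base
      (cpt (ModPair.interior P.mod : Scheme.{u})))) ≃+*
        Γ((ModPair.interior P.mod : Scheme.{u}), ⊤)) := by
  obtain ⟨f, hf, hPf⟩ := exists_span P.isEffCartier
  have hint := interior_eq_basicOpen hPf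
  set q := prm ((ModPair.interior P.mod).ι.base (cpt (ModPair.interior P.mod : Scheme.{u}))) with hq
  have hfq : f ∉ q := by
    rw [hq, notMem_prm, ← hint]
    exact (cpt (ModPair.interior P.mod : Scheme.{u})).2
  have h1 : IsLocalization q.primeCompl Γ(P.total, P.total.basicOpen f) := by
    refine IsLocalization.of_le_of_exists_dvd (Submonoid.powers f) _ ?_ ?_
    · rw [Submonoid.powers_le]; exact hfq
    · intro a ha
      obtain ⟨n, hn⟩ := exists_dvd_pow_of_notMem P hint a ha
      exact ⟨f ^ n, ⟨n, rfl⟩, hn⟩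
  let e1 : Localization.AtPrime q ≃+* Γ(P.total, P.total.basicOpen f) :=
    (IsLocalization.algEquiv q.primeCompl _ _).toRingEquiv
  let e2 : Γ((P.total.basicOpen f : Scheme.{u}), ⊤) ≃+* Γ(P.total, P.total.basicOpen f) :=
    (P.total.basicOpen f).topIso.commRingCatIsoToRingEquiv
  have h3 : Nonempty (Localization.AtPrime q ≃+* Γ((P.total.basicOpen f : Scheme.{u}), ⊤)) :=
    ⟨e1.trans e2.symm⟩
  rw [← hint] at h3
  exact h3

end K973.EtPair
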