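import Groth.Agent.ModPair.K973.ValAlg
import Mathlib.AlgebraicGeometry.ValuativeCriterion
import Mathlib.AlgebraicGeometry.Stalk
import Mathlib.AlgebraicGeometry.Morphisms.Proper

/-!
# Gluing a lift over `Spec (A/q)` and `Spec A_q` when `A = A/q ×_{k(q)} A_q`
-/

set_option autoImplicit false

universe u

open CategoryTheory AlgebraicGeometry TopologicalSpace

namespace K973.ValGlue

/-- the closed point of the spectrum of a local ring. -/
def cp (R : Type u) [CommRing R] [IsLocalRing R] : Spec (CommRingCat.of R) :=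
  IsLocalRing.closedPoint R

theorem cp_specializes {R : Type u} [CommRing R] [IsLocalRing R] (x : Spec (CommRingCat.of R)) :
    x ⤳ cp R := IsLocalRing.specializes_closedPoint x

/-- A morphism from the spectrum of a local ring whose closed point lands in an affine open factors through it. -/
theorem exists_factor {R : Type u} [CommRing R] [IsLocalRing R] {X : Scheme.{u}}
    (f : Spec (CommRingCat.of R) ⟶ X) {U : X.Opens} (hU : IsAffineOpen U)
    (h : f (cp R) ∈ U) :
    ∃ φ : Γ(X, U) ⟶ CommRingCat.of R, Spec.map φ ≫ hU.fromSpec = f := by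
  have h1 : Set.range f ⊆ Set.range hU.fromSpec := by
    rw [hU.range_fromSpec]
    rintro _ ⟨x, rfl⟩
    have h2 : cp R ∈ f ⁻¹ᵁ U := h
    exact (cp_specializes x).mem_open (f ⁻¹ᵁ U).isOpen h2
  refine ⟨Spec.preimage (IsOpenImmersion.lift hU.fromSpec f h1), ?_⟩
  rw [Spec.map_preimage, IsOpenImmersion.lift_fac]

theorem specMap_fromSpec_inj {X : Scheme.{u}} {R : CommRingCat.{u}} {U : X.Opens} (hU : IsAffineOpen U)
    {φ ψ : Γ(X, U) ⟶ R} (h : Spec.map φ ≫ hU.fromSpec = Spec.map ψ ≫ hU.fromSpec) : φ = ψ := by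
  rw [cancel_mono] at h
  exact Spec.map_injective h

theorem closedPoint_spec {R S : Type u} [CommRing R] [CommRing S] [IsLocalRing R] [IsLocalRing S]
    (φ : R →+* S) [IsLocalHom φ] :
    Spec.map (CommRingCat.ofHom φ) (cp S) = cp R :=
  IsLocalRing.comap_closedPoint φ

theorem exists_lift {A : Type u} [CommRing A] [IsLocalRing A] (q : Ideal A) [q.IsPrime]
    [ValuationRing (A ⧸ q)]
    (h : Set.BijOn (algebraMap A (Localization.AtPrime q)) (q : Set A)
      (IsLocalRing.maximalIdeal (Localization.AtPrime q) : Set (Localization.AtPrime q)))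
    {Q X : Scheme.{u}} (π : Q ⟶ X) [IsProper π] (g : Spec (CommRingCat.of A) ⟶ X)
    (s : Spec (CommRingCat.of (Localization.AtPrime q)) ⟶ Q)
    (hs : s ≫ π = Spec.map (CommRingCat.ofHom (algebraMap A (Localization.AtPrime q))) ≫ g) :
    ∃ l : Spec (CommRingCat.of A) ⟶ Q, l ≫ π = g ∧
      Spec.map (CommRingCat.ofHom (algebraMap A (Localization.AtPrime q))) ≫ l = s := by
  have hcomm : (algebraMap (A ⧸ q) q.ResidueField).comp (Ideal.Quotient.mk q) =
      (IsLocalRing.residue (Localization.AtPrime q)).comp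
        (algebraMap A (Localization.AtPrime q)) := rfl
  -- the valuative square
  let S : ValuativeCommSq π :=
    { R := A ⧸ q
      K := q.ResidueField
      i₁ := Spec.map (CommRingCat.ofHom (IsLocalRing.residue (Localization.AtPrime q))) ≫ s
      i₂ := Spec.map (CommRingCat.ofHom (Ideal.Quotient.mk q)) ≫ g
      commSq := ⟨by
        rw [Category.assoc, hs, ← Category.assoc, ← Category.assoc, ← Spec.map_comp,
          ← Spec.map_comp, ← CommRingCat.ofHom_comp, ← CommRingCat.ofHom_comp, hcomm]⟩ }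
  have hE : ValuativeCriterion.Existence π := by
    have := (inferInstance : UniversallyClosed π)
    rw [UniversallyClosed.eq_valuativeCriterion] at this
    exact this.1
  obtain ⟨l₀, hl1, hl2⟩ : ∃ l₀ : Spec (CommRingCat.of (A ⧸ q)) ⟶ Q,
      Spec.map (CommRingCat.ofHom (algebraMap (A ⧸ q) q.ResidueField)) ≫ l₀ =
        Spec.map (CommRingCat.ofHom (IsLocalRing.residue (Localization.AtPrime q))) ≫ s ∧
      l₀ ≫ π = Spec.map (CommRingCat.ofHom (Ideal.Quotient.mk q)) ≫ g := by
    obtain ⟨⟨l₀, hl1, hl2⟩⟩ := hE S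
    exact ⟨l₀, hl1, hl2⟩
  have : IsLocalRing (A ⧸ q) := inferInstance
  have hloc : IsLocalHom (Ideal.Quotient.mk q) :=
    IsLocalHom.of_surjective _ Ideal.Quotient.mk_surjective
  -- an affine neighbourhood of the image of the closed point
  obtain ⟨W, hW, hxW, -⟩ := exists_isAffineOpen_mem_and_subset (X := Q) (U := ⊤)
    (x := l₀ (cp (A ⧸ q))) trivial
  obtain ⟨φl, hφl⟩ := exists_factor l₀ hW hxW
  have hsW : s (cp (Localization.AtPrime q)) ∈ W := by
    have e1 : s (cp (Localization.AtPrime q)) =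
        l₀ (Spec.map (CommRingCat.ofHom (algebraMap (A ⧸ q) q.ResidueField))
          (cp q.ResidueField)) := by
      rw [← Scheme.Hom.comp_apply, hl1, Scheme.Hom.comp_apply, closedPoint_spec]
    rw [e1]
    have h2 : cp (A ⧸ q) ∈ l₀ ⁻¹ᵁ W := hxW
    exact (cp_specializes _).mem_open (l₀ ⁻¹ᵁ W).isOpen h2
  obtain ⟨φs, hφs⟩ := exists_factor s hW hsW
  have hφ : φl ≫ CommRingCat.ofHom (algebraMap (A ⧸ q) q.ResidueField) =
      φs ≫ CommRingCat.ofHom (IsLocalRing.residue (Localization.AtPrime q)) := by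
    apply specMap_fromSpec_inj hW
    rw [Spec.map_comp, Spec.map_comp, Category.assoc, Category.assoc, hφl, hφs, hl1]
  have hinj := ValAlg.injective_of_bijOn q h
  have hrange : ∀ b : Γ(Q, W), ∃ a : A, algebraMap A (Localization.AtPrime q) a = φs.hom b := by
    intro b
    obtain ⟨a, ha, -⟩ := ValAlg.exists_of_bijOn q h (φs.hom b) (φl.hom b)
      (congrArg (fun χ => χ.hom b) hφ)
    exact ⟨a, ha⟩
  choose F hF using hrange
  let φ : Γ(Q, W) →+* A :=
    { toFun := F
      map_one' := hinj (by rw [hF, map_one, map_one])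
      map_mul' := fun x y => hinj (by rw [hF, map_mul, map_mul, hF, hF])
      map_zero' := hinj (by rw [hF, map_zero, map_zero])
      map_add' := fun x y => hinj (by rw [hF, map_add, map_add, hF, hF]) }
  have hφ1 : CommRingCat.ofHom φ ≫ CommRingCat.ofHom (algebraMap A (Localization.AtPrime q)) = φs := by
    ext b; exact hF b
  have hφ2 : CommRingCat.ofHom φ ≫ CommRingCat.ofHom (Ideal.Quotient.mk q) = φl := by
    ext b
    apply IsFractionRing.injective (A ⧸ q) q.ResidueField
    have e1 : algebraMap (A ⧸ q) q.ResidueField (φl.hom b) =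
        IsLocalRing.residue (Localization.AtPrime q) (φs.hom b) :=
      congrArg (fun χ => χ.hom b) hφ
    rw [e1, ← hF b]
    rfl
  have hs2 : Spec.map (CommRingCat.ofHom (algebraMap A (Localization.AtPrime q))) ≫
      Spec.map (CommRingCat.ofHom φ) ≫ hW.fromSpec = s := by
    rw [← Category.assoc, ← Spec.map_comp, hφ1, hφs]
  have hl3 : Spec.map (CommRingCat.ofHom (Ideal.Quotient.mk q)) ≫
      Spec.map (CommRingCat.ofHom φ) ≫ hW.fromSpec = l₀ := by
    rw [← Category.assoc, ← Spec.map_comp, hφ2, hφl]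
  refine ⟨Spec.map (CommRingCat.ofHom φ) ≫ hW.fromSpec, ?_, hs2⟩
  -- equality of the two morphisms to `X`
  obtain ⟨U, hU, hxU, -⟩ := exists_isAffineOpen_mem_and_subset (X := X) (U := ⊤)
    (x := g (cp A)) trivial
  have hxU2 : ((Spec.map (CommRingCat.ofHom φ) ≫ hW.fromSpec) ≫ π) (cp A) ∈ U := by
    have e1 : ((Spec.map (CommRingCat.ofHom φ) ≫ hW.fromSpec) ≫ π) (cp A) = g (cp A) := by
      rw [← closedPoint_spec (Ideal.Quotient.mk q), ← Scheme.Hom.comp_apply,
        ← Scheme.Hom.comp_apply, ← hl2, ← hl3]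
      simp only [Category.assoc]
    rw [e1]; exact hxU
  obtain ⟨ψ₁, hψ₁⟩ := exists_factor g hU hxU
  obtain ⟨ψ₂, hψ₂⟩ := exists_factor _ hU hxU2
  rw [← hψ₂, ← hψ₁]
  congr 2
  have h5 : ψ₂ ≫ CommRingCat.ofHom (algebraMap A (Localization.AtPrime q)) =
      ψ₁ ≫ CommRingCat.ofHom (algebraMap A (Localization.AtPrime q)) := by
    apply specMap_fromSpec_inj hU
    rw [Spec.map_comp, Spec.map_comp, Category.assoc, Category.assoc, hψ₁, hψ₂, ← hs, ← hs2]
    simp only [Category.assoc]
  ext b
  exact hinj (congrArg (fun χ => χ.hom b) h5)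

end K973.ValGlue
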