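import Groth.Agent.ModPair.K973.FppfRefine
import Groth.Agent.ModPair.K973.ValGlue
import Groth.Agent.Etbase.HensSection
import Mathlib.AlgebraicGeometry.ResidueField

/-!
# fppf-locality of the spectrum of a henselian local ring all of whose finite flat algebras have retractions
-/

set_option autoImplicit false
universe u

open CategoryTheory AlgebraicGeometry Limits TopologicalSpace

namespace K973.FppfHens

open K973.ValGlue

/-- the class of fppf morphisms used in the statements -/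
abbrev FW : MorphismProperty Scheme.{u} :=
  @Flat ⊓ @LocallyOfFinitePresentation ⊓ @QuasiCompact ⊓ @QuasiSeparated

theorem fw_iff {X Y : Scheme.{u}} (f : X ⟶ Y) : FW f ↔ Flat f ∧ LocallyOfFinitePresentation f ∧
    QuasiCompact f ∧ QuasiSeparated f :=
  ⟨fun h => ⟨h.1.1.1, h.1.1.2, h.1.2, h.2⟩, fun h => ⟨⟨⟨h.1, h.2.1⟩, h.2.2.1⟩, h.2.2.2⟩⟩

theorem exists_lift_point {K : Type u} [Field K] {U Y : Scheme.{u}} (e : U ⟶ Y) (y : U)
    [IsIso (e.residueFieldMap y)] (t : Spec (CommRingCat.of K) ⟶ Y) (ht : t (cp K) = e y) :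
    ∃ v : Spec (CommRingCat.of K) ⟶ U, v ≫ e = t := by
  obtain ⟨x, φ, hφ, hx⟩ : ∃ (x : Y) (φ : Y.residueField x ⟶ CommRingCat.of K),
      Spec.map φ ≫ Y.fromSpecResidueField x = t ∧ x = t (cp K) := by
    obtain ⟨⟨x, φ⟩, h1⟩ := (Scheme.SpecToEquivOfField K Y).symm.surjective t
    refine ⟨x, φ, h1, ?_⟩
    rw [← h1]
    change x = (Spec.map φ ≫ Y.fromSpecResidueField x) (cp K)
    rw [Scheme.Hom.comp_apply, Scheme.fromSpecResidueField_apply]
  have hx' : x = e y := hx.trans ht
  clear hx ht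
  subst hx'
  refine ⟨Spec.map (inv (e.residueFieldMap y) ≫ φ) ≫ U.fromSpecResidueField y, ?_⟩
  rw [Category.assoc, ← Scheme.Hom.SpecMap_residueFieldMap_fromSpecResidueField,
    ← Category.assoc, ← Spec.map_comp, ← Category.assoc, IsIso.hom_inv_id, Category.id_comp, hφ]

/-- Etale neighbourhoods with trivial residue extension of the closed point of a henselian local scheme split. -/
theorem exists_section_etale {R : Type u} [CommRing R] [HenselianLocalRing R] {U : Scheme.{u}}
    (e : U ⟶ Spec (CommRingCat.of R)) [Etale e] (y : U) (hy : e y = cp R)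
    (hiso : IsIso (e.residueFieldMap y)) : ∃ s : Spec (CommRingCat.of R) ⟶ U, s ≫ e = 𝟙 _ := by
  obtain ⟨v, hv⟩ := exists_lift_point (K := IsLocalRing.ResidueField R) e y
    (Spec.map (CommRingCat.ofHom (IsLocalRing.residue R))) (by rw [closedPoint_spec, hy])
  obtain ⟨s, hs, -⟩ := Groth.Agent.Etbase.HensSection.exists_section e v hv
  exact ⟨s, hs⟩

/-- finite flat schemes over `Spec B` have sections if finite flat algebras have retractions -/
theorem exists_section_finite {B : Type u} [CommRing B]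
    (hret : ∀ (D : Type u) [CommRing D] [Algebra B D] [Module.Finite B D] [Module.Flat B D]
      [Nontrivial D], Nonempty (D →ₐ[B] B))
    {V : Scheme.{u}} (p : V ⟶ Spec (CommRingCat.of B)) [IsFinite p] [Flat p] [Nonempty V] :
    ∃ σ : Spec (CommRingCat.of B) ⟶ V, σ ≫ p = 𝟙 _ := by
  have : IsAffine V := isAffine_of_isAffineHom p
  obtain ⟨φ, hφ⟩ := Spec.map_surjective (V.isoSpec.inv ≫ p)
  have h1 : φ.hom.Finite := by
    have : IsFinite (Spec.map φ) := by rw [hφ]; infer_instance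
    exact (IsFinite.SpecMap_iff _).1 this
  have h2 : φ.hom.Flat := by
    have : Flat (Spec.map φ) := by rw [hφ]; infer_instance
    exact (HasRingHomProperty.Spec_iff (P := @Flat)).1 this
  algebraize [φ.hom]
  have hne : Nonempty (⊤ : V.Opens) := ⟨⟨Classical.arbitrary V, trivial⟩⟩
  have hnt : Nontrivial Γ(V, ⊤) := Scheme.component_nontrivial _ _
  obtain ⟨ψ⟩ := hret Γ(V, ⊤)
  refine ⟨Spec.map (CommRingCat.ofHom ψ.toRingHom) ≫ V.isoSpec.inv, ?_⟩
  rw [Category.assoc, ← hφ, ← Spec.map_comp, ← Spec.map_id]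
  congr 1
  ext x
  exact ψ.commutes x

theorem fppfLocal_spec (B : Type u) [CommRing B] [HenselianLocalRing B]
    (hret : ∀ (D : Type u) [CommRing D] [Algebra B D] [Module.Finite B D] [Module.Flat B D]
      [Nontrivial D], Nonempty (D →ₐ[B] B))
    (X : Scheme.{u}) (R : Presieve X) (hR : R ∈ Scheme.precoverage FW X)
    (g : Spec (CommRingCat.of B) ⟶ X) :
    ∃ (Y : Scheme.{u}) (w : Y ⟶ X) (h : Spec (CommRingCat.of B) ⟶ Y), R w ∧ h ≫ w = g := by
  obtain ⟨ι, Z, f, rfl⟩ := R.exists_eq_ofArrows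
  rw [Scheme.ofArrows_mem_precoverage_iff] at hR
  obtain ⟨j, a, ha⟩ := hR.1 (g (cp B))
  have hfl : Flat (f j) := (hR.2 j).1.1.1
  have hfp : LocallyOfFinitePresentation (f j) := (hR.2 j).1.1.2
  obtain ⟨b, -, hb⟩ := Scheme.Pullback.exists_preimage_pullback (f := f j) (g := g) a (cp B) ha
  obtain ⟨U, V, e, v, het, ⟨y, hy, hiso⟩, hfin, hflat, hsurj, -, r, hr⟩ :=
    FppfRefine.exists_local (pullback.snd (f j) g) (cp B) ⟨b, hb⟩
  obtain ⟨s, hs⟩ := exists_section_etale e y hy hiso
  have hne : Nonempty (pullback v s : Scheme.{u}) := by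
    obtain ⟨c, hc⟩ := v.surjective (s (cp B))
    obtain ⟨d, -, -⟩ := Scheme.Pullback.exists_preimage_pullback (f := v) (g := s) c (cp B) hc
    exact ⟨d⟩
  obtain ⟨σ, hσ⟩ := exists_section_finite hret (pullback.snd v s)
  refine ⟨Z j, f j, σ ≫ pullback.fst v s ≫ r ≫ pullback.fst (f j) g, ⟨j⟩, ?_⟩
  simp only [Category.assoc]
  rw [pullback.condition, reassoc_of% hr, pullback.condition_assoc, reassoc_of% hσ,
    reassoc_of% hs]

end K973.FppfHens
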