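import Mathlib.RingTheory.LocalRing.Module
import Mathlib.RingTheory.Localization.Integral
import Mathlib.RingTheory.Localization.Away.Basic
import Mathlib.LinearAlgebra.Dimension.Finite

/-!
# Lattices over a ring `A` with local localization `B` such that `y ∈ A` or `y⁻¹ ∈ A` for all `y ∈ B`
-/

set_option autoImplicit false

universe u

namespace K973.FreeGlue

variable {A B : Type u} [CommRing A] [CommRing B] [Algebra A B]

/-- every element of `B` or its inverse is in `A`. -/
def ValLike (A B : Type u) [CommRing A] [CommRing B] [Algebra A B] : Prop :=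
  ∀ y : B, (∃ a, algebraMap A B a = y) ∨ (∃ a, algebraMap A B a * y = 1)

theorem scaling (H : ValLike A B) {ι : Type u} (c : ι → B) (s : Finset ι)
    (hs : ∃ i ∈ s, IsUnit (c i)) :
    ∃ i ∈ s, IsUnit (c i) ∧ ∀ j ∈ s, ∃ a, algebraMap A B a * c i = c j := by
  classical
  -- comparison of two coefficients, one of them a unit
  have cmp : ∀ x y : B, IsUnit x → (∃ a, algebraMap A B a * x = y) ∨
      (∃ a, algebraMap A B a * y = x) := by
    intro x y hx
    obtain ⟨u, rfl⟩ := hx
    rcases H (y * ((u⁻¹ : Bˣ) : B)) with ⟨a, ha⟩ | ⟨a, ha⟩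
    · left; refine ⟨a, ?_⟩
      rw [ha, mul_assoc, Units.inv_mul, mul_one]
    · right; refine ⟨a, ?_⟩
      have : algebraMap A B a * y = (algebraMap A B a * (y * ((u⁻¹ : Bˣ) : B))) * u := by
        rw [mul_assoc, mul_assoc, Units.inv_mul, mul_one]
      rw [this, ha, one_mul]
  induction s using Finset.induction with
  | empty => obtain ⟨i, hi, -⟩ := hs; exact absurd hi (Finset.notMem_empty i)
  | insert n s hn ih =>
    by_cases hex : ∃ i ∈ s, IsUnit (c i)
    · obtain ⟨i, his, hiu, hi⟩ := ih hex
      rcases cmp (c i) (c n) hiu with ⟨a, ha⟩ | ⟨a, ha⟩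
      · refine ⟨i, Finset.mem_insert_of_mem his, hiu, fun j hj => ?_⟩
        rcases Finset.mem_insert.mp hj with rfl | hj
        · exact ⟨a, ha⟩
        · exact hi j hj
      · refine ⟨n, Finset.mem_insert_self _ _, ?_, fun j hj => ?_⟩
        · rw [← ha] at hiu; exact isUnit_of_mul_isUnit_right hiu
        · rcases Finset.mem_insert.mp hj with rfl | hj
          · exact ⟨1, by rw [map_one, one_mul]⟩
          · obtain ⟨a', ha'⟩ := hi j hj
            exact ⟨a' * a, by rw [map_mul, mul_assoc, ha, ha']⟩
    · obtain ⟨i, hi, hiu⟩ := hs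
      rcases Finset.mem_insert.mp hi with rfl | hi
      · refine ⟨i, Finset.mem_insert_self _ _, hiu, fun j hj => ?_⟩
        rcases Finset.mem_insert.mp hj with rfl | hj
        · exact ⟨1, by rw [map_one, one_mul]⟩
        · rcases cmp (c i) (c j) hiu with h | ⟨a, ha⟩
          · exact h
          · rw [← ha] at hiu
            exact absurd ⟨j, hj, isUnit_of_mul_isUnit_right hiu⟩ hex
      · exact absurd ⟨i, hi, hiu⟩ hex

theorem free_of_fg [IsLocalRing B] (hinj : Function.Injective (algebraMap A B)) (H : ValLike A B)
    {N : Type u} [AddCommGroup N] [Module B N] [Module A N] [IsScalarTower A B N]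
    [Module.Finite B N] [Module.Free B N] (M : Submodule A N) (hM : M.FG)
    (hspan : Submodule.span B (M : Set N) = ⊤) : Module.Free A M := by
  classical
  -- a finite generating set of minimal cardinality
  have hex : ∃ r : ℕ, ∃ S : Finset N, S.card = r ∧ Submodule.span A (S : Set N) = M := by
    obtain ⟨S, hS⟩ := hM
    exact ⟨_, S, rfl, hS⟩
  obtain ⟨S, hcard, hS⟩ := Nat.find_spec hex
  have hmin : ∀ T : Finset N, Submodule.span A (T : Set N) = M → S.card ≤ T.card := by
    intro T hT
    rw [hcard]
    exact Nat.find_min' hex ⟨T, rfl, hT⟩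
  have hSB : Submodule.span B (Set.range ((↑) : S → N)) = ⊤ := by
    rw [eq_top_iff, ← hspan, Submodule.span_le, ← hS]
    intro x hx
    have h1 : Submodule.span A (S : Set N) ≤
        (Submodule.span B (Set.range ((↑) : S → N))).restrictScalars A := by
      rw [Submodule.span_le]
      intro s hs
      exact Submodule.subset_span ⟨⟨s, hs⟩, rfl⟩
    exact h1 hx
  have hfp : Module.FinitePresentation B N := Module.finitePresentation_of_projective B N
  obtain ⟨κ, a, b, hb⟩ := Module.exists_basis_of_span_of_flat (R := B) ((↑) : S → N) hSB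
  have hsurj : Function.Surjective a := by
    by_contra hns
    obtain ⟨i₀, hi₀⟩ : ∃ i₀ : S, i₀ ∉ Set.range a := by
      by_contra! hc
      exact hns fun i => hc i
    have h1 : (i₀ : N) ∈ Submodule.span B (((↑) : S → N) '' Set.range a) := by
      rw [← Set.range_comp]
      have : ((↑) : S → N) ∘ a = b := by ext k; exact (hb k).symm
      rw [this, b.span_eq]; trivial
    rw [Finsupp.mem_span_image_iff_linearCombination] at h1
    obtain ⟨l, hl, hl2⟩ := h1
    let c : S →₀ B := Finsupp.single i₀ 1 - l
    have hc0 : c i₀ = 1 := by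
      have : l i₀ = 0 := by
        by_contra hne
        exact hi₀ (hl (Finsupp.mem_support_iff.mpr hne))
      simp [c, this]
    have hcsum : ∑ s : S, c s • (s : N) = 0 := by
      have h2 : Finsupp.linearCombination B ((↑) : S → N) c = 0 := by
        rw [map_sub, hl2, Finsupp.linearCombination_single, one_smul, sub_self]
      rw [Finsupp.linearCombination_apply, Finsupp.sum_fintype _ _ (by simp)] at h2
      exact h2
    obtain ⟨s₁, -, hu, hs₁⟩ := scaling H c Finset.univ ⟨i₀, Finset.mem_univ _, by
      rw [hc0]; exact isUnit_one⟩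
    choose! α hα using hs₁
    have hα1 : α s₁ = 1 := by
      apply hinj
      rw [map_one]
      exact hu.mul_right_cancel (by rw [hα s₁ (Finset.mem_univ _), one_mul])
    have h3 : ∑ s : S, α s • (s : N) = 0 := by
      have h4 : c s₁ • ∑ s : S, α s • (s : N) = 0 := by
        rw [← hcsum, Finset.smul_sum]
        refine Finset.sum_congr rfl fun s _ => ?_
        rw [← hα s (Finset.mem_univ _), mul_comm, mul_smul, algebraMap_smul]
      obtain ⟨u, hu⟩ := hu
      rw [← hu] at h4
      have h5 := congrArg (fun z => ((u⁻¹ : Bˣ) : B) • z) h4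
      simpa [smul_smul] using h5
    have h6 : (s₁ : N) ∈ Submodule.span A ((S.erase s₁ : Finset N) : Set N) := by
      have h7 : (s₁ : N) = -∑ s ∈ Finset.univ.erase s₁, α s • (s : N) := by
        rw [← Finset.add_sum_erase _ _ (Finset.mem_univ s₁), hα1, one_smul] at h3
        exact eq_neg_of_add_eq_zero_left h3
      have h7' : -∑ s ∈ Finset.univ.erase s₁, α s • (s : N) ∈
          Submodule.span A ((S.erase s₁ : Finset N) : Set N) := by
        refine neg_mem (sum_mem fun s hs => Submodule.smul_mem _ _ (Submodule.subset_span ?_))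
        rw [Finset.coe_erase]
        exact ⟨s.2, fun h => (Finset.mem_erase.mp hs).1 (Subtype.ext h)⟩
      exact (congrArg (fun z => z ∈ Submodule.span A ((S.erase s₁ : Finset N) : Set N)) h7).mpr h7'
    have h8 : Submodule.span A ((S.erase s₁ : Finset N) : Set N) = M := by
      refine le_antisymm ?_ ?_
      · rw [← hS]
        exact Submodule.span_mono (by exact_mod_cast Finset.erase_subset _ _)
      · rw [← hS, Submodule.span_le]
        intro s hs
        by_cases hss : s = s₁
        · rw [hss]; exact h6
        · exact Submodule.subset_span (by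
            rw [Finset.coe_erase]; exact ⟨hs, hss⟩)
    have h9 := hmin _ h8
    have h10 := Finset.card_erase_lt_of_mem s₁.2
    omega
  -- hence the generating set is linearly independent
  have hli : LinearIndependent B ((↑) : S → N) := by
    have h1 : ((↑) : S → N) ∘ a = b := by ext k; exact (hb k).symm
    have h2 := b.linearIndependent
    rw [← h1] at h2
    have hainj : Function.Injective a := fun x y hxy => h2.injective (by
      change ((a x : S) : N) = ((a y : S) : N)
      rw [hxy])
    have h3 := h2.comp (Equiv.ofBijective a ⟨hainj, hsurj⟩).symm (Equiv.injective _)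
    convert h3 using 1
    ext s
    change (s : N) = ((a ((Equiv.ofBijective a ⟨hainj, hsurj⟩).symm s) : S) : N)
    rw [show a ((Equiv.ofBijective a ⟨hainj, hsurj⟩).symm s) = s from
      (Equiv.ofBijective a ⟨hainj, hsurj⟩).apply_symm_apply s]
  have hliA : LinearIndependent A ((↑) : S → N) := hli.restrict_scalars (by
    intro x y hxy
    apply hinj
    simpa [Algebra.smul_def] using hxy)
  have hb2 := Module.Basis.span hliA
  have h4 : Submodule.span A (Set.range ((↑) : S → N)) = M := by
    rw [Subtype.range_coe_subtype]; exact hS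
  rw [h4] at hb2
  exact Module.Free.of_basis hb2

/-- A finite algebra over `A_f` is the localization of a finite algebra over `A` contained in it. -/
theorem exists_subalgebra (f : A) [IsLocalization.Away f B] (D : Type u) [CommRing D] [Algebra B D]
    [Algebra A D] [IsScalarTower A B D] [Module.Finite B D] :
    ∃ C : Subalgebra A D, Module.Finite A C ∧ ∀ d : D, ∃ n : ℕ, algebraMap A D f ^ n * d ∈ C := by
  classical
  obtain ⟨T, hT⟩ := (Module.finite_def (R := B) (M := D)).mp inferInstance
  have hint : ∀ t : D, ∃ n : ℕ, IsIntegral A (algebraMap A D f ^ n * t) := by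
    intro t
    obtain ⟨⟨_, n, rfl⟩, hm⟩ := IsIntegral.exists_multiple_integral_of_isLocalization
      (R := A) (Rₘ := B) (Submonoid.powers f) t (Algebra.IsIntegral.isIntegral (R := B) t)
    refine ⟨n, ?_⟩
    rw [← map_pow, ← Algebra.smul_def]
    exact hm
  choose n hn using hint
  let s : Set D := (fun t => algebraMap A D f ^ n t * t) '' (T : Set D)
  refine ⟨Algebra.adjoin A s, Algebra.finite_adjoin_of_finite_of_isIntegral
    (T.finite_toSet.image _) ?_, ?_⟩
  · rintro _ ⟨t, -, rfl⟩
    exact hn t
  · intro d
    have hd : d ∈ Submodule.span B (T : Set D) := by rw [hT]; trivial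
    have hf : algebraMap A D f ∈ Algebra.adjoin A s := Subalgebra.algebraMap_mem _ _
    induction hd using Submodule.span_induction with
    | mem x hx => exact ⟨n x, Algebra.subset_adjoin ⟨x, hx, rfl⟩⟩
    | zero => exact ⟨0, by rw [mul_zero]; exact zero_mem _⟩
    | add x y _ _ hx hy =>
      obtain ⟨a, ha⟩ := hx
      obtain ⟨b, hb⟩ := hy
      refine ⟨a + b, ?_⟩
      have : algebraMap A D f ^ (a + b) * (x + y) = algebraMap A D f ^ b *
          (algebraMap A D f ^ a * x) + algebraMap A D f ^ a * (algebraMap A D f ^ b * y) := by ring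
      rw [this]
      exact add_mem (mul_mem (pow_mem hf _) ha) (mul_mem (pow_mem hf _) hb)
    | smul b x _ hx =>
      obtain ⟨a, ha⟩ := hx
      obtain ⟨k, c, hc⟩ := IsLocalization.Away.surj f b
      refine ⟨k + a, ?_⟩
      have : algebraMap A D f ^ (k + a) * (b • x) = algebraMap A D c *
          (algebraMap A D f ^ a * x) := by
        rw [Algebra.smul_def, pow_add, IsScalarTower.algebraMap_apply A B D f,
          IsScalarTower.algebraMap_apply A B D c, ← hc, map_mul, map_pow]
        ring
      rw [this]
      exact mul_mem (Subalgebra.algebraMap_mem _ _) ha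

/-- If finite free algebras over `A` have retractions then so do finite flat algebras over `B = A_f`. -/
theorem exists_retraction [IsLocalRing B] (f : A) [IsLocalization.Away f B]
    (hinj : Function.Injective (algebraMap A B)) (H : ValLike A B)
    (hret : ∀ (C : Type u) [CommRing C] [Algebra A C] [Module.Finite A C] [Module.Free A C]
      [Nontrivial C], Nonempty (C →ₐ[A] A))
    (D : Type u) [CommRing D] [Algebra B D] [Module.Finite B D] [Module.Flat B D] [Nontrivial D] :
    Nonempty (D →ₐ[B] B) := by
  let _ : Algebra A D := ((algebraMap B D).comp (algebraMap A B)).toAlgebra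
  have : IsScalarTower A B D := IsScalarTower.of_algebraMap_eq fun _ => rfl
  have hfree : Module.Free B D := Module.free_of_flat_of_isLocalRing
  obtain ⟨C, hCfin, hC⟩ := exists_subalgebra (A := A) (B := B) f D
  have hfu : IsUnit (algebraMap A B f) := IsLocalization.Away.algebraMap_isUnit f
  have hfuD : IsUnit (algebraMap A D f) := by
    rw [IsScalarTower.algebraMap_apply A B D]; exact hfu.map _
  have hCfree : Module.Free A C := by
    refine free_of_fg (B := B) hinj H (Subalgebra.toSubmodule C)
      ((Subalgebra.toSubmodule C).fg_top.mp (Module.finite_def.mp hCfin)) ?_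
    rw [eq_top_iff]
    intro d _
    obtain ⟨n, hn⟩ := hC d
    obtain ⟨u, hu⟩ := hfu
    have h1 : d = ((u⁻¹ : Bˣ) : B) ^ n • (algebraMap A D f ^ n * d) := by
      rw [Algebra.smul_def, IsScalarTower.algebraMap_apply A B D, ← hu, ← mul_assoc, map_pow,
        ← mul_pow, ← map_mul, Units.inv_mul, map_one, one_pow, one_mul]
    rw [h1]
    exact Submodule.smul_mem _ _ (Submodule.subset_span hn)
  have : Nontrivial C := inferInstance
  obtain ⟨ψ⟩ := hret C
  -- extend to the localization
  have hloc : IsLocalization.Away (algebraMap A C f) D := by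
    refine ⟨?_, ?_, ?_⟩
    · rintro ⟨_, n, rfl⟩
      change IsUnit (algebraMap C D ((algebraMap A C f) ^ n))
      rw [map_pow]
      exact hfuD.pow n
    · intro d
      obtain ⟨n, hn⟩ := hC d
      refine ⟨⟨⟨_, hn⟩, ⟨_, n, rfl⟩⟩, ?_⟩
      change d * algebraMap C D ((algebraMap A C f) ^ n) = algebraMap A D f ^ n * d
      rw [map_pow, mul_comm]
      rfl
    · intro x y hxy
      exact ⟨1, by rw [Subtype.ext hxy]⟩
  let g : C →+* B := (algebraMap A B).comp ψ.toRingHom
  have hg : IsUnit (g (algebraMap A C f)) := by
    have : g (algebraMap A C f) = algebraMap A B f := by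
      change algebraMap A B (ψ (algebraMap A C f)) = _
      rw [ψ.commutes]; rfl
    rw [this]; exact hfu
  let G : D →+* B := IsLocalization.Away.lift (algebraMap A C f) hg
  have hG : ∀ c : C, G (c : D) = algebraMap A B (ψ c) := fun c =>
    IsLocalization.Away.lift_eq (algebraMap A C f) hg c
  refine ⟨{ G with commutes' := fun b => ?_ }⟩
  have h1 : G.comp (algebraMap B D) = RingHom.id B := by
    apply IsLocalization.ringHom_ext (Submonoid.powers f)
    ext a
    change G (algebraMap B D (algebraMap A B a)) = algebraMap A B a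
    have h2 : algebraMap B D (algebraMap A B a) = ((algebraMap A C a : C) : D) := rfl
    rw [h2, hG, ψ.commutes]; rfl
  exact congrArg (fun χ => χ b) h1

end K973.FreeGlue
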