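import Groth.Agent.ModPair.K973.EtPair
import Groth.Agent.ModPair.K973.FppfHens
import Groth.Agent.ModPair.K973.FreeGlue
import Mathlib.RingTheory.Finiteness.ModuleFinitePresentation

/-!
# Pairs local for fppf coverings
-/

set_option autoImplicit false
universe u

open CategoryTheory AlgebraicGeometry Limits BlowUp TopologicalSpace

namespace K973.FppfPair

open Groth.Agent.Divis.EffCartier K973.ValGlue K973.ValPair K973.AicSec K973.FppfHens

/-- local for fppf coverings of pairs -/
def FppfLocal (P : ModPair.Pair.{u}) : Prop :=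
  ∀ (X : ModPair.Pair.{u}) (ι : Type u) (U : ι → ModPair.Pair.{u}) (v : ∀ i, U i ⟶ X),
    (∀ i, ModPair.IsMinimal (U i).mod X.mod (v i).hom ∧ Flat (v i).hom ∧
      LocallyOfFinitePresentation (v i).hom ∧ QuasiCompact (v i).hom ∧
      QuasiSeparated (v i).hom) →
    (∀ x : X.total, ∃ (i : ι) (y : (U i).total), (v i).hom.base y = x) →
    ∀ g : P ⟶ X, ∃ (i : ι) (h : P ⟶ U i), h ≫ v i = g

/-- fppf-local schemes -/
def SchLocal (T : Scheme.{u}) : Prop :=
  ∀ (X : Scheme.{u}) (R : Presieve X), R ∈ Scheme.precoverage (@Flat ⊓ @LocallyOfFinitePresentation ⊓ @QuasiCompact ⊓ @QuasiSeparated) X →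
    ∀ g : T ⟶ X, ∃ (Y : Scheme.{u}) (w : Y ⟶ X) (h : T ⟶ Y), R w ∧ h ≫ w = g

theorem etLocal_of_fppfLocal (P : ModPair.Pair.{u}) (h : FppfLocal P) : EtPair.EtLocal P := by
  intro X ι U v hv hc g
  refine h X ι U v (fun i => ?_) hc g
  have h1 : Etale (v i).hom := (hv i).2.1
  exact ⟨(hv i).1, inferInstance, inferInstance, (hv i).2.2⟩

theorem fppfLocal_of_schLocal (P : ModPair.Pair.{u}) (h : SchLocal P.total) : FppfLocal P := by
  intro X ι U v hv hc g
  exact pair_of_scheme FW P h X ι U v (fun i => ⟨(hv i).1, (fw_iff _).2 (hv i).2⟩) hc g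

theorem fw_stable : MorphismProperty.IsStableUnderBaseChange (C := Scheme.{u}) FW := by
  have h1 : MorphismProperty.IsStableUnderBaseChange (C := Scheme.{u})
      (@Flat ⊓ @LocallyOfFinitePresentation : MorphismProperty Scheme.{u}) :=
    MorphismProperty.IsStableUnderBaseChange.inf (P := @Flat) (Q := @LocallyOfFinitePresentation)
  have h2 : MorphismProperty.IsStableUnderBaseChange (C := Scheme.{u})
      (@Flat ⊓ @LocallyOfFinitePresentation ⊓ @QuasiCompact : MorphismProperty Scheme.{u}) :=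
    MorphismProperty.IsStableUnderBaseChange.inf
      (P := @Flat ⊓ @LocallyOfFinitePresentation) (Q := @QuasiCompact)
  exact MorphismProperty.IsStableUnderBaseChange.inf
    (P := @Flat ⊓ @LocallyOfFinitePresentation ⊓ @QuasiCompact) (Q := @QuasiSeparated)

theorem schLocal_of_fppfLocal (P : ModPair.Pair.{u}) (h : FppfLocal P) : SchLocal P.total := by
  intro X R hR g
  have := fw_stable.{u}
  refine scheme_of_pair FW P (fun V p hp => ?_) (fun X ι U v hv hc g => ?_) X R hR g
  · have : Flat p := ((fw_iff _).1 hp).1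
    exact isEff_comap_flat P.isEffCartier p
  · exact h X ι U v (fun i => ⟨(hv i).1, (fw_iff _).1 (hv i).2⟩) hc g

theorem valLike_of_fval {A B : Type u} [CommRing A] [CommRing B] [Algebra A B] {f : A}
    [IsLocalization.Away f B] (h : ValAlg.FVal f) : FreeGlue.ValLike A B := by
  intro y
  obtain ⟨n, a, ha⟩ := IsLocalization.Away.surj f y
  have hfu : IsUnit (algebraMap A B f ^ n) := (IsLocalization.Away.algebraMap_isUnit f).pow n
  rcases h a (f ^ n) ⟨n, Ideal.subset_span (by simp)⟩ with ⟨c, hc⟩ | ⟨c, hc⟩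
  · right
    refine ⟨c, hfu.mul_right_cancel ?_⟩
    rw [mul_assoc, ha, one_mul, ← map_pow, hc, map_mul, mul_comm]
  · left
    refine ⟨c, hfu.mul_right_cancel ?_⟩
    rw [ha, hc, map_mul, map_pow, mul_comm]

/-- finite free algebras have retractions -/
theorem exists_retraction_free (P : ModPair.Pair.{u}) [IsAffine P.total]
    [IsLocalRing Γ(P.total, ⊤)] (h : FppfLocal P) (C : Type u) [CommRing C]
    [Algebra Γ(P.total, ⊤) C] [Module.Finite Γ(P.total, ⊤) C] [Module.Free Γ(P.total, ⊤) C]
    [Nontrivial C] : Nonempty (C →ₐ[Γ(P.total, ⊤)] Γ(P.total, ⊤)) := by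
  refine EtPair.exists_retraction P FW (fun X ι U v hv hc g =>
    h X ι U v (fun i => ⟨(hv i).1, (fw_iff _).1 (hv i).2⟩) hc g) C ?_
  have h1 : Flat (Spec.map (CommRingCat.ofHom (algebraMap Γ(P.total, ⊤) C))) :=
    (HasRingHomProperty.Spec_iff (P := @Flat)).2 (RingHom.flat_algebraMap_iff.mpr inferInstance)
  have h2 : LocallyOfFinitePresentation
      (Spec.map (CommRingCat.ofHom (algebraMap Γ(P.total, ⊤) C))) := by
    have : Module.FinitePresentation Γ(P.total, ⊤) C := Module.finitePresentation_of_projective _ _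
    have : Algebra.FinitePresentation Γ(P.total, ⊤) C := inferInstance
    exact (HasRingHomProperty.Spec_iff (P := @LocallyOfFinitePresentation)).2
      (RingHom.finitePresentation_algebraMap.mpr this)
  rw [fw_iff]
  exact ⟨inferInstance, inferInstance, inferInstance, inferInstance⟩

theorem interior_schLocal (P : ModPair.Pair.{u}) [IsAffine P.total] [IsLocalRing Γ(P.total, ⊤)]
    (h : FppfLocal P) (hσ : SigmaLocal P) : SchLocal (ModPair.interior P.mod : Scheme.{u}) := by
  obtain ⟨f, hf, hPf⟩ := exists_span P.isEffCartier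
  have hint := interior_eq_basicOpen hPf
  have hval := fval_of_sigmaLocal P hf hPf hσ
  obtain ⟨h5, h6, h7⟩ := cond_of_sigmaLocal P hσ
  obtain ⟨h8, -⟩ := EtPair.strictlyHenselian_of_etLocal P (etLocal_of_fppfLocal P h)
  have h9 := HensGlue.henselian_localization _ _ (h7 _ isClosed_cpt).2
  obtain ⟨e⟩ := EtPair.nonempty_equiv P
  have h10 : HenselianLocalRing Γ((ModPair.interior P.mod : Scheme.{u}), ⊤) :=
    Groth.Agent.Proet.SHEquiv.henselianLocalRing_of_ringEquiv e
  rw [hint] at h10 ⊢
  have h11 : HenselianLocalRing Γ(P.total, P.total.basicOpen f) :=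
    Groth.Agent.Proet.SHEquiv.henselianLocalRing_of_ringEquiv
      (P.total.basicOpen f).topIso.commRingCatIsoToRingEquiv
  have hinj : Function.Injective (algebraMap Γ(P.total, ⊤) Γ(P.total, P.total.basicOpen f)) :=
    IsLocalization.injective _ (M := Submonoid.powers f) (by
      rintro _ ⟨n, rfl⟩; exact pow_mem hf n)
  have hret : ∀ (D : Type u) [CommRing D] [Algebra Γ(P.total, P.total.basicOpen f) D]
      [Module.Finite Γ(P.total, P.total.basicOpen f) D]
      [Module.Flat Γ(P.total, P.total.basicOpen f) D] [Nontrivial D],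
      Nonempty (D →ₐ[Γ(P.total, P.total.basicOpen f)] Γ(P.total, P.total.basicOpen f)) := by
    intro D _ _ _ _ _
    exact FreeGlue.exists_retraction (A := Γ(P.total, ⊤)) f hinj (valLike_of_fval hval)
      (fun C _ _ _ _ _ => exists_retraction_free P h C) D
  intro X R hR g
  let ε := ((isAffineOpen_top P.total).basicOpen f).isoSpec
  obtain ⟨Y, w, l, hw, hl⟩ := fppfLocal_spec Γ(P.total, P.total.basicOpen f) hret X R hR
    (ε.inv ≫ g)
  refine ⟨Y, w, ε.hom ≫ l, hw, ?_⟩
  rw [Category.assoc, hl, Iso.hom_inv_id_assoc]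

end K973.FppfPair
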