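import Groth.Agent.S1353
import Groth.Agent.S2735
import Groth.Prelude.Def_W4c6modpairsegaMP
import Mathlib.AlgebraicGeometry.Sites.MorphismProperty
import Mathlib.AlgebraicGeometry.Morphisms.FlatDescent

/-!
# fppf coverings are refined by etale and then finite flat ones
-/

set_option autoImplicit false
universe u

open CategoryTheory AlgebraicGeometry Limits TopologicalSpace

namespace K973.FppfRefine

theorem surjective_restrict {W X : Scheme.{u}} (w : W ⟶ X) (O : X.Opens)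
    (hO : (O : Set X) ⊆ Set.range w) : Surjective (w ∣_ O) := by
  refine ⟨?_⟩
  rw [morphismRestrict_base]
  rintro ⟨z, hz⟩
  obtain ⟨a, ha⟩ := hO hz
  have ha' : a ∈ w ⁻¹ᵁ O := by
    change w a ∈ O
    rw [ha]; exact hz
  exact ⟨⟨a, ha'⟩, Subtype.ext ha⟩

theorem exists_local {W X : Scheme.{u}} (w : W ⟶ X) [Flat w] [LocallyOfFinitePresentation w]
    (x : X) (hx : x ∈ Set.range w) :
    ∃ (U V : Scheme.{u}) (e : U ⟶ X) (v : V ⟶ U), Etale e ∧
      (∃ y : U, e y = x ∧ IsIso (e.residueFieldMap y)) ∧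
      IsFinite v ∧ Flat v ∧ Surjective v ∧ LocallyOfFinitePresentation v ∧
      ∃ r : V ⟶ W, r ≫ w = v ≫ e := by
  -- the image of `w`
  let O : X.Opens := ⟨Set.range w, w.isOpenMap.isOpen_range⟩
  have hsurj : Surjective (w ∣_ O) := surjective_restrict w O le_rfl
  obtain ⟨S', g, h, hhg, hgf, hgp, hgq, hgs, -⟩ := Groth.Agent.S2735.result (w ∣_ O)
  obtain ⟨s', hs'⟩ : ∃ s' : S', (g ≫ O.ι) s' = x := by
    obtain ⟨s', hs'⟩ := g.surjective (⟨x, hx⟩ : (O : Scheme.{u}))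
    exact ⟨s', by rw [Scheme.Hom.comp_apply, hs']; rfl⟩
  have hgw : (h ≫ (w ⁻¹ᵁ O).ι) ≫ w = g ≫ O.ι := by
    rw [Category.assoc, ← morphismRestrict_ι, reassoc_of% hhg]
  have hq : (g ≫ O.ι).QuasiFiniteAt s' := (g ≫ O.ι).quasiFiniteAt s'
  obtain ⟨U, e, y, hU, V, v, hv, hfin, hvy, -, -, -⟩ := Groth.Agent.S1353.result (g ≫ O.ι) s' hq
  have het := hU.etale
  let p : (V : Scheme.{u}) ⟶ U := V.ι ≫ pullback.snd (g ≫ O.ι) e
  have hpfin : IsFinite p := hfin
  have hpflat : Flat p := inferInstance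
  have hplfp : LocallyOfFinitePresentation p := inferInstance
  let U' : U.Opens := ⟨Set.range p, p.isOpenMap.isOpen_range⟩
  have hyU' : y ∈ U' := ⟨⟨v, hv⟩, hvy⟩
  refine ⟨(U' : Scheme.{u}), (p ⁻¹ᵁ U' : Scheme.{u}), U'.ι ≫ e, p ∣_ U', inferInstance, ?_,
    inferInstance, inferInstance, surjective_restrict p U' le_rfl, inferInstance, ?_⟩
  · let z : (U' : Scheme.{u}) := ⟨y, hyU'⟩
    have hz : U'.ι z = y := rfl
    refine ⟨z, ?_, ?_⟩
    · rw [Scheme.Hom.comp_apply, hz]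
      exact hU.base_eq.trans hs'
    · have h1 : IsIso (e.residueFieldMap (U'.ι z)) := by
        rw [hz, ConcreteCategory.isIso_iff_bijective]
        exact hU.residue_bijective
      have h2 : IsIso (U'.ι.residueFieldMap z) := inferInstance
      rw [Scheme.residueFieldMap_comp]
      exact IsIso.comp_isIso' h1 h2
  · refine ⟨(p ⁻¹ᵁ U').ι ≫ V.ι ≫ pullback.fst (g ≫ O.ι) e ≫ h ≫ (w ⁻¹ᵁ O).ι, ?_⟩
    simp only [Category.assoc] at hgw ⊢
    rw [hgw, pullback.condition, morphismRestrict_ι_assoc]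
    simp only [p, Category.assoc]

end K973.FppfRefine
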