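import Groth.Agent.ModPair.K973.Base

/-!
# Basic facts on interiors and effective Cartier ideals
-/

set_option autoImplicit false
universe u

open CategoryTheory AlgebraicGeometry Limits BlowUp TopologicalSpace

namespace K973.Pairs

open Groth.Agent.Divis Groth.Agent.Divis.BlowChart Groth.Agent.Divis.BlowChart2
  Groth.Agent.Divis.IdealComap Groth.Agent.Divis.EffCartier

variable {X Y : Scheme.{u}}

theorem interior_comap (I : Y.IdealSheafData) (f : X ⟶ Y) :
    ModPair.interior (I.comap f) = f ⁻¹ᵁ ModPair.interior I := by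
  ext x
  rw [SetLike.mem_coe, K973.Base.mem_interior_iff, Scheme.IdealSheafData.support_comap]
  rfl

theorem interior_mul (I J : X.IdealSheafData) :
    ModPair.interior (I * J) = ModPair.interior I ⊓ ModPair.interior J := by
  ext x
  simp only [SetLike.mem_coe, K973.Base.mem_interior_iff, Scheme.IdealSheafData.support_mul,
    TopologicalSpace.Opens.coe_inf, Set.mem_inter_iff]
  rw [← not_or]
  rfl

theorem interior_mono {I J : X.IdealSheafData} (h : I ≤ J) :
    ModPair.interior I ≤ ModPair.interior J := by
  intro x hx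
  rw [K973.Base.mem_interior_iff] at hx ⊢
  exact fun hxJ => hx (Scheme.IdealSheafData.support_antitone h hxJ)

theorem interior_top : ModPair.interior (⊤ : X.IdealSheafData) = ⊤ := by
  ext x
  rw [SetLike.mem_coe, K973.Base.mem_interior_iff, Scheme.IdealSheafData.support_top]
  exact iff_of_true (fun h => h) trivial

/-- If an effective Cartier ideal is contained in the inverse image of a locally principal one, that inverse
image is effective Cartier. -/
theorem isEff_comap_of_le {I : X.IdealSheafData} {J : Y.IdealSheafData} (hI : IsEffCartierIdeal I)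
    (hJ : IsEffCartierIdeal J) (f : X ⟶ Y) (h : I ≤ J.comap f) : IsEffCartierIdeal (J.comap f) := by
  refine isEff_comap_of f fun x => ?_
  obtain ⟨U, hU, b, hb, hJb⟩ := hJ (f x)
  obtain ⟨V, hxV, hVU, a, ha, hIa⟩ := exists_princAt hI x (f ⁻¹ᵁ U.1) hU
  refine ⟨U, V, hU, hxV, hVU, b, hJb, ?_⟩
  have h1 : a ∈ (J.comap f).ideal V := h V (hIa ▸ Ideal.mem_span_singleton_self a)
  rw [ideal_comap J f U V hVU, hJb, Ideal.map_span, Set.image_singleton,
    Ideal.mem_span_singleton] at h1
  obtain ⟨c, hc⟩ := h1
  have hc' : a = ((f.appLE U.1 V.1 hVU).hom b) * c := hc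
  rw [hc'] at ha
  exact (mul_mem_nonZeroDivisors.mp ha).1

theorem isIso_imageι_of_isEff {I : X.IdealSheafData} (hI : IsEffCartierIdeal I) {U : X.Opens}
    (hU : U = ModPair.interior I) : IsIso U.ι.imageι := by
  subst hU
  have h := CartierCompl.isSchemeTheoreticallyDominant_compl hI
  have h1 : (ModPair.interior I).ι.ker = ⊥ := h.ker_eq_bot
  change IsIso ((ModPair.interior I).ι.ker).subschemeι
  rw [Scheme.isIso_subschemeι_iff_eq_bot]
  exact h1

end K973.Pairs
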