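import Mathlib.RingTheory.Valuation.ValuationRing
import Mathlib.RingTheory.Localization.AtPrime.Basic
import Mathlib.RingTheory.Localization.Away.Basic
import Mathlib.RingTheory.LocalRing.ResidueField.Ideal

/-!
# `f`-valuative local rings (algebra for the valuation push-out description of local modulus pairs)
-/

set_option autoImplicit false

universe u

namespace K973.ValAlg

variable {A : Type u} [CommRing A]

/-- every two-generated ideal containing a power of `f` is generated by one of its two generators. -/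
def FVal (f : A) : Prop := ∀ a b : A, (∃ n : ℕ, f ^ n ∈ Ideal.span {a, b}) → a ∣ b ∨ b ∣ a

theorem isLocalRing_away [Nontrivial A] {f : A} (hf : f ∈ nonZeroDivisors A) (h : FVal f)
    (B : Type u) [CommRing B] [Algebra A B] [IsLocalization.Away f B] : IsLocalRing B := by
  have hinj : Function.Injective (algebraMap A B) :=
    IsLocalization.injective B (M := Submonoid.powers f) (by
      rintro _ ⟨n, rfl⟩; exact pow_mem hf n)
  have : Nontrivial B := hinj.nontrivial
  refine IsLocalRing.of_isUnit_or_isUnit_of_isUnit_add fun x y hxy => ?_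
  obtain ⟨n, a, ha⟩ := IsLocalization.Away.surj f x
  obtain ⟨m, b, hb⟩ := IsLocalization.Away.surj f y
  have hfu : IsUnit (algebraMap A B f) := IsLocalization.Away.algebraMap_isUnit f
  have h1 : (x + y) * algebraMap A B f ^ (n + m) = algebraMap A B (a * f ^ m + b * f ^ n) := by
    rw [map_add, map_mul, map_mul, ← ha, ← hb, map_pow, map_pow]; ring
  have h2 : IsUnit (algebraMap A B (a * f ^ m + b * f ^ n)) := by
    rw [← h1]; exact hxy.mul (hfu.pow _)
  obtain ⟨_, ⟨l, rfl⟩, hl⟩ := (IsLocalization.algebraMap_isUnit_iff (Submonoid.powers f)).mp h2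
  have hmem : f ^ l ∈ Ideal.span {a * f ^ m, b * f ^ n} := by
    refine Ideal.mem_of_dvd _ hl ?_
    exact add_mem (Ideal.subset_span (by simp)) (Ideal.subset_span (by simp))
  have key : ∀ {z : B} {c : A} {k j : ℕ}, z * algebraMap A B f ^ k = algebraMap A B c →
      c * f ^ j ∣ f ^ l → IsUnit z := by
    intro z c k j hz hc
    have h3 : IsUnit (algebraMap A B (c * f ^ j)) :=
      (IsLocalization.algebraMap_isUnit_iff (Submonoid.powers f)).mpr ⟨_, ⟨l, rfl⟩, hc⟩
    rw [map_mul, ← hz, mul_assoc] at h3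
    exact isUnit_of_mul_isUnit_left h3
  rcases h _ _ ⟨l, hmem⟩ with hd | hd
  · exact Or.inl (key ha ((dvd_add_right (dvd_refl _)).mpr hd |>.trans hl))
  · exact Or.inr (key hb (((dvd_add_right hd).mpr (dvd_refl _)).trans hl))

theorem valuationRing_quotient {f : A} (h : FVal f) (q : Ideal A) [q.IsPrime]
    (hq : ∀ a ∉ q, ∃ n : ℕ, a ∣ f ^ n) : ValuationRing (A ⧸ q) := by
  refine ValuationRing.iff_dvd_total.mpr ⟨fun x y => ?_⟩
  obtain ⟨a, rfl⟩ := Ideal.Quotient.mk_surjective x
  obtain ⟨b, rfl⟩ := Ideal.Quotient.mk_surjective y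
  by_cases ha : a ∈ q
  · rw [Ideal.Quotient.eq_zero_iff_mem.mpr ha]; exact Or.inr (dvd_zero _)
  obtain ⟨n, hn⟩ := hq a ha
  rcases h a b ⟨n, Ideal.mem_of_dvd _ hn (Ideal.subset_span (by simp))⟩ with hd | hd
  · exact Or.inl (map_dvd _ hd)
  · exact Or.inr (map_dvd _ hd)

theorem bijOn {f : A} (hf : f ∈ nonZeroDivisors A) (h : FVal f) (q : Ideal A) [q.IsPrime]
    (hfq : f ∉ q) (hq : ∀ a ∉ q, ∃ n : ℕ, a ∣ f ^ n) :
    Set.BijOn (algebraMap A (Localization.AtPrime q)) (q : Set A)
      (IsLocalRing.maximalIdeal (Localization.AtPrime q) : Set (Localization.AtPrime q)) := by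
  refine ⟨?_, ?_, ?_⟩
  · intro a ha
    exact (IsLocalization.AtPrime.to_map_mem_maximal_iff (Localization.AtPrime q) q a).mpr ha
  · refine (IsLocalization.injective (Localization.AtPrime q) (M := q.primeCompl) ?_).injOn
    intro a ha
    obtain ⟨n, c, hc⟩ := hq a ha
    exact (mul_mem_nonZeroDivisors.mp (hc ▸ pow_mem hf n : a * c ∈ nonZeroDivisors A)).1
  · intro y hy
    obtain ⟨⟨x, s⟩, hxs⟩ := IsLocalization.surj q.primeCompl y
    have hx : x ∈ q := by
      rw [← IsLocalization.AtPrime.to_map_mem_maximal_iff (Localization.AtPrime q) q, ← hxs]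
      exact Ideal.mul_mem_right _ _ hy
    obtain ⟨n, t, ht⟩ := hq s.1 s.2
    have hy2 : y * algebraMap A _ (f ^ n) = algebraMap A _ (x * t) := by
      rw [ht, map_mul, map_mul, ← mul_assoc, hxs]
    rcases h (x * t) (f ^ n) ⟨n, Ideal.subset_span (by simp)⟩ with hd | ⟨c, hc⟩
    · exact absurd (Ideal.IsPrime.mem_of_pow_mem inferInstance n
        (Ideal.mem_of_dvd _ hd (Ideal.mul_mem_right t _ hx))) hfq
    · have hfu : IsUnit (algebraMap A (Localization.AtPrime q) (f ^ n)) :=
        IsLocalization.map_units _ (⟨f ^ n, fun hh => hfq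
          (Ideal.IsPrime.mem_of_pow_mem inferInstance n hh)⟩ : q.primeCompl)
      refine ⟨c, ?_, ?_⟩
      · have h3 : f ^ n * c ∈ q := hc ▸ Ideal.mul_mem_right t _ hx
        exact (Ideal.IsPrime.mem_or_mem inferInstance h3).resolve_left fun hh => hfq
          (Ideal.IsPrime.mem_of_pow_mem inferInstance n hh)
      · apply hfu.mul_left_injective
        change _ * _ = y * _
        rw [hy2, hc, map_mul, mul_comm]

/-- If the localisation map `A → A_q` sends `q` bijectively to the maximal ideal, it is injective. -/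
theorem injective_of_bijOn (q : Ideal A) [q.IsPrime]
    (h : Set.BijOn (algebraMap A (Localization.AtPrime q)) (q : Set A)
      (IsLocalRing.maximalIdeal (Localization.AtPrime q) : Set (Localization.AtPrime q))) :
    Function.Injective (algebraMap A (Localization.AtPrime q)) := by
  rw [injective_iff_map_eq_zero]
  intro a ha
  have haq : a ∈ q := by
    rw [← IsLocalization.AtPrime.to_map_mem_maximal_iff (Localization.AtPrime q) q, ha]
    exact zero_mem _
  exact h.injOn haq (zero_mem q) (by rw [ha, map_zero])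

/-- `A = A/q ×_{k(q)} A_q`. -/
theorem exists_of_bijOn (q : Ideal A) [q.IsPrime]
    (h : Set.BijOn (algebraMap A (Localization.AtPrime q)) (q : Set A)
      (IsLocalRing.maximalIdeal (Localization.AtPrime q) : Set (Localization.AtPrime q)))
    (y : Localization.AtPrime q) (v : A ⧸ q)
    (hv : algebraMap (A ⧸ q) q.ResidueField v = IsLocalRing.residue _ y) :
    ∃ a : A, algebraMap A (Localization.AtPrime q) a = y ∧ Ideal.Quotient.mk q a = v := by
  obtain ⟨a, rfl⟩ := Ideal.Quotient.mk_surjective v
  have h1 : algebraMap (A ⧸ q) q.ResidueField (Ideal.Quotient.mk q a) =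
      IsLocalRing.residue _ (algebraMap A (Localization.AtPrime q) a) := rfl
  have h2 : y - algebraMap A _ a ∈ IsLocalRing.maximalIdeal (Localization.AtPrime q) := by
    rw [← IsLocalRing.residue_eq_zero_iff, map_sub, ← hv, h1, sub_self]
  obtain ⟨b, hb, hb2⟩ := h.surjOn h2
  refine ⟨a + b, by rw [map_add, hb2]; ring, ?_⟩
  rw [map_add, Ideal.Quotient.eq_zero_iff_mem.mpr hb, add_zero]

end K973.ValAlg
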