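import Groth.Agent.ModPair.K973.Pairs
import Groth.Agent.Flat2C.Glob
import Groth.Agent.Fdesc.QCohStalk
import Groth.Agent.S8859
import Groth.Agent.S8852

/-!
# Zariski coverings of the interior extend after an admissible blow-up
-/

set_option autoImplicit false
universe u

open CategoryTheory AlgebraicGeometry Limits BlowUp TopologicalSpace

namespace K973.ZarExt

open Groth.Agent.Divis.EffCartier

theorem isCompact_interior {S : Scheme.{u}} [CompactSpace S] {I : S.IdealSheafData}
    (hI : IsEffCartierIdeal I) : IsCompact (ModPair.interior I : Set S) := by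
  have ha := Groth.Agent.Divis.CartierCompl.isAffineHom_compl hI
  have hq : QuasiCompact (Scheme.Opens.ι (X := S) I.support.compl) := inferInstance
  have h1 : CompactSpace (ModPair.interior I : Scheme.{u}) := by
    have := QuasiCompact.compactSpace_of_compactSpace (Scheme.Opens.ι (X := S) I.support.compl)
    exact this
  exact isCompact_iff_compactSpace.mpr h1

theorem isFiniteType_of_isEff {S : Scheme.{u}} {I : S.IdealSheafData}
    (hI : IsEffCartierIdeal I) : IsFiniteTypeIdeal I := by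
  intro U
  refine Groth.Agent.Divis.IdealFT.fg_of_cover I U fun x _ => ?_
  obtain ⟨V, hV, f, -, hf⟩ := hI x
  exact ⟨V, hV, hf ▸ ⟨{f}, by simp⟩⟩

theorem isFiniteType_mul {S : Scheme.{u}} {I J : S.IdealSheafData}
    (hI : IsFiniteTypeIdeal I) (hJ : IsFiniteTypeIdeal J) : IsFiniteTypeIdeal (I * J) := by
  intro U
  rw [Scheme.IdealSheafData.ideal_mul]
  exact (hI U).mul (hJ U)

theorem isFiniteType_iSup {S : Scheme.{u}} {ι : Type*} [Finite ι] {I : ι → S.IdealSheafData}
    (hI : ∀ i, IsFiniteTypeIdeal (I i)) : IsFiniteTypeIdeal (⨆ i, I i) := by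
  intro U
  rw [Scheme.IdealSheafData.ideal_iSup, iSup_apply]
  exact Submodule.fg_iSup _ fun i => hI i U

theorem notMem_support_iff {X : Scheme.{u}} {J : X.IdealSheafData} {W : X.affineOpens} {z : X}
    (hz : z ∈ W.1) : z ∉ J.support ↔ ∃ s ∈ J.ideal W, z ∈ X.basicOpen s := by
  rw [Scheme.IdealSheafData.mem_support_iff_of_mem hz, Scheme.mem_zeroLocus_iff]
  push Not
  rfl

/-- After a blow-up making the sum of the `K i` invertible, the loci where one `K i` generates cover. -/
theorem exists_local {S Y : Scheme.{u}} (b : Y ⟶ S) {ι : Type*} (K : ι → S.IdealSheafData)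
    (hE : IsEffCartierIdeal ((⨆ i, K i).comap b)) (y : Y) :
    ∃ (W : Y.affineOpens) (i : ι), y ∈ W.1 ∧
      ∀ z ∈ W.1, b z ∉ (⨆ i, K i).support → b z ∉ (K i).support := by
  obtain ⟨W, hyW, e, he, hWe⟩ := hE y
  have hcs : (⨆ i, K i).comap b = ⨆ i, (K i).comap b :=
    (Scheme.IdealSheafData.map_gc b).l_iSup
  obtain ⟨i, x, hx, hxy⟩ : ∃ (i : ι) (x : Γ(Y, W.1)), e * x ∈ ((K i).comap b).ideal W ∧
      y ∈ Y.basicOpen x := by
    by_contra! hc
    have h1 : ((⨆ i, K i).comap b).ideal W ≤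
        Ideal.span {e} * (W.2.primeIdealOf ⟨y, hyW⟩).asIdeal := by
      rw [hcs, Scheme.IdealSheafData.ideal_iSup, iSup_apply]
      refine iSup_le fun i => ?_
      intro t ht
      have ht' : t ∈ Ideal.span {e} := by
        rw [← hWe, hcs, Scheme.IdealSheafData.ideal_iSup, iSup_apply]
        exact Ideal.mem_iSup_of_mem i ht
      obtain ⟨x, rfl⟩ := Ideal.mem_span_singleton.mp ht'
      have h2 := hc i x ht
      refine Ideal.mul_mem_mul (Ideal.mem_span_singleton_self e) ?_
      rwa [Groth.Agent.Fdesc.QCohStalk.mem_basicOpen_iff W.2 y hyW, not_not] at h2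
    have h3 : e ∈ Ideal.span {e} * (W.2.primeIdealOf ⟨y, hyW⟩).asIdeal :=
      h1 (hWe ▸ Ideal.mem_span_singleton_self e)
    obtain ⟨c, hc', hce⟩ := Ideal.mem_span_singleton_mul.mp h3
    have h4 : (c - 1) * e = 0 := by rw [sub_mul, one_mul, mul_comm c e, hce, sub_self]
    have h5 : c - 1 = 0 := (mem_nonZeroDivisors_iff_right.mp he) _ h4
    exact (W.2.primeIdealOf ⟨y, hyW⟩).isPrime.ne_top
      ((Ideal.eq_top_iff_one _).mpr (by rwa [← sub_eq_zero.mp h5]))
  refine ⟨⟨Y.basicOpen x, W.2.basicOpen x⟩, i, hxy, fun z hz hzK => ?_⟩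
  have hzW : z ∈ W.1 := Y.basicOpen_le x hz
  have h1 : z ∉ ((⨆ i, K i).comap b).support := by
    rw [Scheme.IdealSheafData.support_comap]; exact hzK
  rw [notMem_support_iff hzW] at h1
  obtain ⟨s, hs, hzs⟩ := h1
  rw [hWe] at hs
  obtain ⟨r, rfl⟩ := Ideal.mem_span_singleton.mp hs
  rw [Scheme.basicOpen_mul] at hzs
  have h2 : z ∉ ((K i).comap b).support := by
    rw [notMem_support_iff hzW]
    exact ⟨e * x, hx, by rw [Scheme.basicOpen_mul]; exact ⟨hzs.1, hz⟩⟩
  rw [Scheme.IdealSheafData.support_comap] at h2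
  exact h2

end K973.ZarExt
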