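import Groth.Agent.ModPair.K973.ValGlue
import Groth.Agent.ModPair.K973.AdmBlow
import Groth.Agent.ModPair.K973.ZarExt
import Groth.Agent.Flat2C.BlowExist
import Mathlib.AlgebraicGeometry.Morphisms.FlatDescent

/-!
# Modulus pairs local for admissible blow-ups: valuation push-outs
-/

set_option autoImplicit false
universe u

open CategoryTheory AlgebraicGeometry Limits BlowUp TopologicalSpace

namespace K973.ValPair

open Groth.Agent.Divis.EffCartier Groth.Agent.Divis.IdealComap K973.ValGlue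

/-- every morphism to the target of an abstract admissible blow-up lifts -/
def SigmaLocal (P : ModPair.Pair.{u}) : Prop :=
  ∀ (Q X : ModPair.Pair.{u}) (q : Q ⟶ X), ModPair.Pair.admBlowup q →
    ∀ g : P ⟶ X, ∃ h : P ⟶ Q, h ≫ q = g

/-- local for Zariski coverings of pairs -/
def ZarLocal (P : ModPair.Pair.{u}) : Prop :=
  ∀ (X : ModPair.Pair.{u}) (ι : Type u) (U : ι → ModPair.Pair.{u}) (v : ∀ i, U i ⟶ X),
    (∀ i, ModPair.IsMinimal (U i).mod X.mod (v i).hom ∧ IsOpenImmersion (v i).hom ∧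
      QuasiCompact (v i).hom) →
    (∀ x : X.total, ∃ (i : ι) (y : (U i).total), (v i).hom.base y = x) →
    ∀ g : P ⟶ X, ∃ (i : ι) (h : P ⟶ U i), h ≫ v i = g

section AffLocal

variable {X : Scheme.{u}}

/-- the closed point of an affine scheme with local ring of functions -/
noncomputable def cpt (X : Scheme.{u}) [IsAffine X] [IsLocalRing Γ(X, ⊤)] : X :=
  X.isoSpec.inv (cp Γ(X, ⊤))

theorem specializes_cpt [IsAffine X] [IsLocalRing Γ(X, ⊤)] (x : X) : x ⤳ cpt X := by
  have h1 : X.isoSpec.inv (X.isoSpec.hom x) = x := by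
    rw [← Scheme.Hom.comp_apply, Iso.hom_inv_id]; rfl
  have h2 := (cp_specializes (X.isoSpec.hom x)).map X.isoSpec.inv.continuous
  rwa [h1] at h2

theorem eq_top_of_cpt_mem [IsAffine X] [IsLocalRing Γ(X, ⊤)] (U : X.Opens) (h : cpt X ∈ U) :
    U = ⊤ :=
  top_le_iff.mp fun x _ => (specializes_cpt x).mem_open U.isOpen h

theorem isClosed_cpt [IsAffine X] [IsLocalRing Γ(X, ⊤)] : IsClosed ({cpt X} : Set X) := by
  have : IsClosed ({cp Γ(X, ⊤)} : Set (Spec (CommRingCat.of Γ(X, ⊤)))) := 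
    (PrimeSpectrum.isClosed_singleton_iff_isMaximal _).mpr
      (inferInstanceAs (IsLocalRing.maximalIdeal Γ(X, ⊤)).IsMaximal)
  have h2 := X.isoSpec.inv.homeomorph.isClosedMap _ this
  rw [Set.image_singleton] at h2
  exact h2

theorem eq_cpt_of_isClosed [IsAffine X] [IsLocalRing Γ(X, ⊤)] {p : X} (hp : IsClosed ({p} : Set X)) :
    p = cpt X := by
  have := (specializes_cpt p).mem_closed hp rfl
  exact (Set.mem_singleton_iff.mp this).symm

/-- On an affine scheme with local ring, an effective Cartier ideal is generated by one nonzerodivisor. -/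
theorem exists_span [IsAffine X] [IsLocalRing Γ(X, ⊤)] {J : X.IdealSheafData}
    (hJ : IsEffCartierIdeal J) : ∃ f ∈ nonZeroDivisors Γ(X, ⊤),
      J.ideal ⟨⊤, isAffineOpen_top _⟩ = Ideal.span {f} := by
  obtain ⟨⟨U, hU⟩, hx, g, hg, hJg⟩ := hJ (cpt X)
  obtain rfl : U = ⊤ := eq_top_of_cpt_mem U hx
  exact ⟨g, hg, hJg⟩

theorem interior_eq_basicOpen [IsAffine X] {J : X.IdealSheafData} {f : Γ(X, ⊤)}
    (hJ : J.ideal ⟨⊤, isAffineOpen_top _⟩ = Ideal.span {f}) :
    ModPair.interior J = X.basicOpen f := by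
  ext x
  rw [SetLike.mem_coe, K973.Base.mem_interior_iff]
  rw [AdmBlow.notMem_support_iff (W := ⟨⊤, isAffineOpen_top _⟩) (trivial : x ∈ (⊤ : X.Opens))]
  rw [hJ]
  constructor
  · rintro ⟨s, hs, hx⟩
    obtain ⟨c, rfl⟩ := Ideal.mem_span_singleton.mp hs
    rw [Scheme.basicOpen_mul] at hx
    exact hx.1
  · intro hx
    exact ⟨f, Ideal.mem_span_singleton_self f, hx⟩

theorem dvd_or_dvd {A : Type u} [CommRing A] [IsLocalRing A] {a b f g : A}
    (hf : f ∈ nonZeroDivisors A) (hg : g ∈ nonZeroDivisors A)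
    (h : Ideal.span {a, b} * Ideal.span {f} = Ideal.span {g}) : a ∣ b ∨ b ∣ a := by
  have ha : a * f ∈ Ideal.span {g} := by
    rw [← h]; exact Ideal.mul_mem_mul (Ideal.subset_span (by simp)) (Ideal.mem_span_singleton_self f)
  have hb : b * f ∈ Ideal.span {g} := by
    rw [← h]; exact Ideal.mul_mem_mul (Ideal.subset_span (by simp)) (Ideal.mem_span_singleton_self f)
  obtain ⟨α, hα⟩ := Ideal.mem_span_singleton.mp ha
  obtain ⟨β, hβ⟩ := Ideal.mem_span_singleton.mp hb
  have hgm : g ∈ Ideal.span {a, b} * Ideal.span {f} := h ▸ Ideal.mem_span_singleton_self g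
  rw [Ideal.mem_mul_span_singleton] at hgm
  obtain ⟨z, hz, hzf⟩ := hgm
  obtain ⟨x, y, rfl⟩ := Ideal.mem_span_pair.mp hz
  have h1 : α * x + β * y = 1 := by
    have h2 : g * (α * x + β * y) = g * 1 := by
      rw [mul_one]; nth_rewrite 2 [← hzf]; linear_combination (-x) * hα + (-y) * hβ
    exact mul_cancel_left_mem_nonZeroDivisors hg |>.mp h2
  have h3 : IsUnit (α * x + β * y) := h1 ▸ isUnit_one
  rcases IsLocalRing.isUnit_or_isUnit_of_isUnit_add h3 with hu | hu
  · obtain ⟨α', hα'⟩ := isUnit_iff_dvd_one.mp (isUnit_of_mul_isUnit_left hu)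
    refine Or.inl ⟨α' * β, ?_⟩
    apply mul_cancel_right_mem_nonZeroDivisors hf |>.mp
    rw [hβ]
    have : a * (α' * β) * f = (a * f) * (α' * β) := by ring
    rw [this, hα]
    linear_combination g * β * hα'
  · obtain ⟨β', hβ'⟩ := isUnit_iff_dvd_one.mp (isUnit_of_mul_isUnit_left hu)
    refine Or.inr ⟨β' * α, ?_⟩
    apply mul_cancel_right_mem_nonZeroDivisors hf |>.mp
    rw [hα]
    have : b * (β' * α) * f = (b * f) * (β' * α) := by ring
    rw [this, hβ]
    linear_combination g * α * hβ'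

end AffLocal

theorem isFiniteType_ofIdealTop {X : Scheme.{u}} [IsAffine X] {I : Ideal Γ(X, ⊤)} (hI : I.FG) :
    IsFiniteTypeIdeal (Scheme.IdealSheafData.ofIdealTop I) := by
  intro U
  rw [Scheme.IdealSheafData.ofIdealTop_ideal]
  exact hI.map _

theorem ofIdealTop_ideal_top {X : Scheme.{u}} [IsAffine X] (I : Ideal Γ(X, ⊤)) :
    (Scheme.IdealSheafData.ofIdealTop I).ideal ⟨⊤, isAffineOpen_top _⟩ = I := by
  rw [Scheme.IdealSheafData.ofIdealTop_ideal]
  have e2 : (homOfLE (le_top : (⊤ : X.Opens) ≤ ⊤)).op = 𝟙 _ := rfl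
  change Ideal.map ((X.presheaf.map (homOfLE (le_top : (⊤ : X.Opens) ≤ ⊤)).op).hom) I = I
  rw [e2, CategoryTheory.Functor.map_id]
  exact Ideal.map_id I

/-- A pair local for admissible blow-ups with affine local total space is `f`-valuative. -/
theorem fval_of_sigmaLocal (P : ModPair.Pair.{u}) [IsAffine P.total] [IsLocalRing Γ(P.total, ⊤)]
    {f : Γ(P.total, ⊤)} (hf : f ∈ nonZeroDivisors Γ(P.total, ⊤))
    (hP : P.mod.ideal ⟨⊤, isAffineOpen_top _⟩ = Ideal.span {f}) (hσ : SigmaLocal P) :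
    ValAlg.FVal f := by
  intro a b ⟨n, hn⟩
  let E₀ : P.total.IdealSheafData := Scheme.IdealSheafData.ofIdealTop (Ideal.span {a, b})
  have hE₀t : E₀.ideal ⟨⊤, isAffineOpen_top _⟩ = Ideal.span {a, b} := ofIdealTop_ideal_top _
  have hE₀ : IsFiniteTypeIdeal E₀ := isFiniteType_ofIdealTop
    (Submodule.fg_span (by simp))
  have hint := interior_eq_basicOpen hP
  have hsupp₀ : ModPair.interior P.mod ≤ ModPair.interior E₀ := by
    intro x hx
    rw [K973.Base.mem_interior_iff,
      AdmBlow.notMem_support_iff (W := ⟨⊤, isAffineOpen_top _⟩) (trivial : x ∈ (⊤ : P.total.Opens)),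
      hE₀t]
    refine ⟨f ^ n, hn, ?_⟩
    rw [hint] at hx
    rcases Nat.eq_zero_or_pos n with rfl | hpos
    · rw [pow_zero]
      have : P.total.basicOpen (1 : Γ(P.total, ⊤)) = ⊤ := Scheme.basicOpen_of_isUnit _ isUnit_one
      rw [this]; trivial
    · rw [Scheme.basicOpen_pow _ _ hpos]; exact hx
  let E := E₀ * P.mod
  have hintE : ModPair.interior E = ModPair.interior P.mod := by
    change ModPair.interior (E₀ * P.mod) = _
    rw [Pairs.interior_mul]
    exact inf_eq_right.mpr hsupp₀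
  have hsuppE : (E.support : Set P.total) = P.mod.support := by
    rw [AdmBlow.support_eq_compl_interior, AdmBlow.support_eq_compl_interior, hintE]
  have hEft : IsFiniteTypeIdeal E :=
    ZarExt.isFiniteType_mul hE₀ (ZarExt.isFiniteType_of_isEff P.isEffCartier)
  have hEadm : IsAdmissibleFor (ModPair.interior P.mod) E := by
    refine ⟨hEft, ?_⟩
    rw [hsuppE, AdmBlow.support_eq_compl_interior]
    exact disjoint_compl_left
  obtain ⟨T, β, hβ⟩ := Groth.Agent.Flat2C.BlowExist.exists_isBlowUp E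
  have hadm := AdmBlow.isAdmBlowup_of_isBlowUp hβ hEadm
  have hT : IsEffCartierIdeal (P.mod.comap β) :=
    AdmBlow.isEff_comap_of_support_subset P.isEffCartier β hβ.1 hsuppE.ge
  let Q : ModPair.Pair.{u} := ⟨T, P.mod.comap β, hT⟩
  let q : Q ⟶ P := ⟨β, le_rfl⟩
  obtain ⟨s, hs⟩ := hσ Q P q hadm (𝟙 P)
  have hs' : s.hom ≫ β = 𝟙 _ := congrArg ModPair.Pair.Hom.hom hs
  have hEcomap : (E.comap β).comap s.hom = E := by
    rw [← Scheme.IdealSheafData.comap_comp, hs', Scheme.IdealSheafData.comap_id]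
  have hEff : IsEffCartierIdeal E := by
    refine AdmBlow.isEff_of_support_subset P.isEffCartier ?_ hsuppE.le
    intro x
    have := AdmBlow.locPrincipal_comap hβ.1 s.hom x
    rwa [hEcomap] at this
  obtain ⟨g, hg, hEg⟩ := exists_span hEff
  have hmul : E.ideal ⟨⊤, isAffineOpen_top _⟩ = Ideal.span {a, b} * Ideal.span {f} := by
    change (E₀ * P.mod).ideal _ = _
    rw [Scheme.IdealSheafData.ideal_mul, Pi.mul_apply, hE₀t, hP]
  exact dvd_or_dvd hf hg (hmul.symm.trans hEg)

/-- the prime of global functions of a point -/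
noncomputable abbrev prm {X : Scheme.{u}} (x : X) : Ideal Γ(X, ⊤) := (X.toSpecΓ.base x).asIdeal

instance prm_isPrime {X : Scheme.{u}} (x : X) : (prm x).IsPrime := (X.toSpecΓ.base x).2

theorem notMem_prm {X : Scheme.{u}} (x : X) (a : Γ(X, ⊤)) : a ∉ prm x ↔ x ∈ X.basicOpen a := by
  rw [← Scheme.toSpecΓ_preimage_basicOpen]; rfl

theorem exists_dvd_pow_of_basicOpen_le {X : Scheme.{u}} [IsAffine X] {f a : Γ(X, ⊤)}
    (h : X.basicOpen f ≤ X.basicOpen a) : ∃ n : ℕ, a ∣ f ^ n := by
  have h1 : PrimeSpectrum.basicOpen f ≤ PrimeSpectrum.basicOpen a := by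
    intro w hw
    let w' : Spec Γ(X, ⊤) := w
    have key : ∀ r : Γ(X, ⊤), X.isoSpec.inv w' ∈ X.basicOpen r ↔ w ∈ PrimeSpectrum.basicOpen r := by
      intro r
      rw [← Scheme.toSpecΓ_preimage_basicOpen]
      have h1 : X.toSpecΓ (X.isoSpec.inv w') = w' := by
        change X.isoSpec.hom (X.isoSpec.inv w') = w'
        rw [← Scheme.Hom.comp_apply, Iso.inv_hom_id]; rfl
      change X.toSpecΓ (X.isoSpec.inv w') ∈ PrimeSpectrum.basicOpen r ↔ _
      rw [h1]
      exact Iff.rfl
    exact (key a).mp (h ((key f).mpr hw))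
  rw [PrimeSpectrum.basicOpen_le_basicOpen_iff] at h1
  obtain ⟨n, hn⟩ := h1
  exact ⟨n, Ideal.mem_span_singleton.mp hn⟩

theorem isLocalRing_basicOpen {X : Scheme.{u}} [IsAffine X] [IsLocalRing Γ(X, ⊤)] {f : Γ(X, ⊤)}
    (hf : f ∈ nonZeroDivisors Γ(X, ⊤)) (h : ValAlg.FVal f) :
    IsLocalRing Γ((X.basicOpen f : Scheme.{u}), ⊤) := by
  have h1 : IsLocalRing Γ(X, X.basicOpen f) := ValAlg.isLocalRing_away hf h _
  exact ((X.basicOpen f).topIso.commRingCatIsoToRingEquiv.symm : _ ≃+* _).isLocalRing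

/-- The structure of a pair with affine local total space which is local for admissible blow-ups. -/
theorem cond_of_sigmaLocal (P : ModPair.Pair.{u}) [IsAffine P.total] [IsLocalRing Γ(P.total, ⊤)]
    (hσ : SigmaLocal P) :
    IsAffine (ModPair.interior P.mod : Scheme.{u}) ∧
      IsLocalRing Γ((ModPair.interior P.mod : Scheme.{u}), ⊤) ∧
      ∀ p : (ModPair.interior P.mod : Scheme.{u}),
        IsClosed ({p} : Set (ModPair.interior P.mod : Scheme.{u})) →
          ValuationRing (Γ(P.total, ⊤) ⧸ prm ((ModPair.interior P.mod).ι.base p)) ∧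
          Set.BijOn (algebraMap Γ(P.total, ⊤) (Localization.AtPrime
              (prm ((ModPair.interior P.mod).ι.base p))))
            (prm ((ModPair.interior P.mod).ι.base p) : Set Γ(P.total, ⊤))
            (IsLocalRing.maximalIdeal (Localization.AtPrime
              (prm ((ModPair.interior P.mod).ι.base p))) :
              Set (Localization.AtPrime (prm ((ModPair.interior P.mod).ι.base p)))) := by
  obtain ⟨f, hf, hPf⟩ := exists_span P.isEffCartier
  have hint := interior_eq_basicOpen hPf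
  have hval := fval_of_sigmaLocal P hf hPf hσ
  have haff : IsAffine (ModPair.interior P.mod : Scheme.{u}) := by
    rw [hint]; exact (isAffineOpen_top P.total).basicOpen f
  have hloc : IsLocalRing Γ((ModPair.interior P.mod : Scheme.{u}), ⊤) := by
    rw [hint]; exact isLocalRing_basicOpen hf hval
  refine ⟨haff, hloc, fun p hp => ?_⟩
  obtain rfl := eq_cpt_of_isClosed hp
  set U := ModPair.interior P.mod with hU
  have hfq : f ∉ prm (U.ι.base (cpt (U : Scheme.{u}))) := by
    rw [notMem_prm, ← hint]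
    exact (cpt (U : Scheme.{u})).2
  have hq : ∀ a ∉ prm (U.ι.base (cpt (U : Scheme.{u}))), ∃ n : ℕ, a ∣ f ^ n := by
    intro a ha
    rw [notMem_prm] at ha
    refine exists_dvd_pow_of_basicOpen_le ?_
    rw [← hint]
    intro x hx
    have h1 : (⟨x, hx⟩ : (U : Scheme.{u})) ⤳ cpt (U : Scheme.{u}) :=
      specializes_cpt (X := (U : Scheme.{u})) ⟨x, hx⟩
    have h2 : cpt (U : Scheme.{u}) ∈ U.ι ⁻¹ᵁ P.total.basicOpen a := ha
    exact h1.mem_open (U.ι ⁻¹ᵁ P.total.basicOpen a).isOpen h2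
  exact ⟨ValAlg.valuationRing_quotient hval _ hq, ValAlg.bijOn hf hval _ hfq hq⟩

/-- Conversely, the push-out description implies locality for admissible blow-ups. -/
theorem sigmaLocal_of_point (P : ModPair.Pair.{u}) [IsAffine P.total] [IsLocalRing Γ(P.total, ⊤)]
    (x : P.total) (hx : x ∈ ModPair.interior P.mod) (hv : ValuationRing (Γ(P.total, ⊤) ⧸ prm x))
    (hb : Set.BijOn (algebraMap Γ(P.total, ⊤) (Localization.AtPrime (prm x)))
            (prm x : Set Γ(P.total, ⊤))
            (IsLocalRing.maximalIdeal (Localization.AtPrime (prm x)) :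
              Set (Localization.AtPrime (prm x)))) : SigmaLocal P := by
  intro Q X q hq g
  obtain ⟨hqmin, hqprop, hqiso⟩ := hq
  let s₀ : Spec (CommRingCat.of (Localization.AtPrime (prm x))) ⟶ Spec Γ(P.total, ⊤) :=
    Spec.map (CommRingCat.ofHom (algebraMap Γ(P.total, ⊤) (Localization.AtPrime (prm x))))
  let e := P.total.isoSpec
  have hs₀ : s₀ (cp (Localization.AtPrime (prm x))) = e.hom x := by
    change PrimeSpectrum.comap _ _ = P.total.toSpecΓ x
    ext a
    change algebraMap _ _ a ∈ IsLocalRing.maximalIdeal _ ↔ _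
    rw [IsLocalization.AtPrime.to_map_mem_maximal_iff (Localization.AtPrime (prm x)) (prm x)]
  have hxP : ∀ y, (s₀ ≫ e.inv) y ⤳ x := by
    intro y
    have h1 := (cp_specializes y).map (s₀ ≫ e.inv).continuous
    have h2 : (s₀ ≫ e.inv) (cp (Localization.AtPrime (prm x))) = x := by
      rw [Scheme.Hom.comp_apply, hs₀, ← Scheme.Hom.comp_apply, Iso.hom_inv_id]; rfl
    rwa [h2] at h1
  have hlands : Set.range (s₀ ≫ e.inv ≫ g.hom) ⊆ Set.range (ModPair.interior X.mod).ι := by
    rintro _ ⟨y, rfl⟩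
    rw [Scheme.Opens.range_ι]
    have h1 : (s₀ ≫ e.inv) y ∈ ModPair.interior P.mod :=
      (hxP y).mem_open (ModPair.interior P.mod).isOpen hx
    have h2 := Pairs.interior_mono g.cond h1
    rw [Pairs.interior_comap] at h2
    rw [← Category.assoc, Scheme.Hom.comp_apply]
    exact h2
  let t := IsOpenImmersion.lift (ModPair.interior X.mod).ι (s₀ ≫ e.inv ≫ g.hom) hlands
  have ht : t ≫ (ModPair.interior X.mod).ι = s₀ ≫ e.inv ≫ g.hom := IsOpenImmersion.lift_fac _ _ _
  let s := t ≫ inv (q.hom ∣_ ModPair.interior X.mod) ≫ (q.hom ⁻¹ᵁ ModPair.interior X.mod).ι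
  have hs : s ≫ q.hom = s₀ ≫ e.inv ≫ g.hom := by
    rw [← ht]
    simp only [s, Category.assoc, ← morphismRestrict_ι, IsIso.inv_hom_id_assoc]
  obtain ⟨l, hl, -⟩ := ValGlue.exists_lift (prm x) hb q.hom (e.inv ≫ g.hom) s hs
  have hlq : (e.hom ≫ l) ≫ q.hom = g.hom := by
    rw [Category.assoc, hl, Iso.hom_inv_id_assoc]
  refine ⟨⟨e.hom ≫ l, ?_⟩, ModPair.Pair.Hom.ext hlq⟩
  change P.mod ≤ _
  rw [show Q.mod = _ from hqmin, ← Scheme.IdealSheafData.comap_comp, hlq]
  exact g.cond

/-- If `P` is local for Zariski coverings, then a member of any covering by quasi-compact opens is everything. -/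
theorem exists_eq_top (P : ModPair.Pair.{u}) [QuasiSeparatedSpace P.total] (hz : ZarLocal P)
    {ι : Type u} (V : ι → P.total.Opens) (hV : ∀ i, CompactSpace (V i : Scheme.{u}))
    (hc : ∀ x, ∃ i, x ∈ V i) : ∃ i, V i = ⊤ := by
  have hE : ∀ i, IsEffCartierIdeal (P.mod.comap (V i).ι) := fun i =>
    isEff_comap_flat P.isEffCartier _
  obtain ⟨i, h, hh⟩ := hz P ι (fun i => ⟨(V i : Scheme.{u}), P.mod.comap (V i).ι, hE i⟩)
    (fun i => ⟨(V i).ι, le_rfl⟩)
    (fun i => ⟨rfl, (inferInstance : IsOpenImmersion (V i).ι),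
      quasiCompact_of_compactSpace (V i).ι⟩)
    (fun x => by
      obtain ⟨i, hi⟩ := hc x
      exact ⟨i, ⟨x, hi⟩, rfl⟩) (𝟙 P)
  refine ⟨i, top_le_iff.mp fun x _ => ?_⟩
  have h1 : h.hom ≫ (V i).ι = 𝟙 _ := congrArg ModPair.Pair.Hom.hom hh
  have h2 : (V i).ι (h.hom x) = x := by
    rw [← Scheme.Hom.comp_apply, h1]; rfl
  rw [← h2]
  exact (h.hom x).2

theorem isUnit_of_basicOpen_eq_top {X : Scheme.{u}} [IsAffine X] {s : Γ(X, ⊤)}
    (hs : X.basicOpen s = ⊤) : IsUnit s := by
  obtain ⟨n, hn⟩ := exists_dvd_pow_of_basicOpen_le (f := (1 : Γ(X, ⊤))) (a := s)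
    (by rw [hs]; exact le_top)
  exact isUnit_iff_dvd_one.mpr (by simpa using hn)

/-- A pair local for Zariski coverings has affine total space with local ring. -/
theorem isAffine_of_zarLocal (P : ModPair.Pair.{u}) [QuasiSeparatedSpace P.total]
    (hz : ZarLocal P) : IsAffine P.total ∧ IsLocalRing Γ(P.total, ⊤) := by
  have haff : ∀ x : P.total, ∃ V : P.total.Opens, IsAffineOpen V ∧ x ∈ V := fun x => by
    obtain ⟨V, hV, hx, -⟩ := exists_isAffineOpen_mem_and_subset (X := P.total) (U := ⊤) (x := x)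
      trivial
    exact ⟨V, hV, hx⟩
  choose V hV hxV using haff
  obtain ⟨x, hx⟩ := exists_eq_top P hz V (fun x => by
    have : IsAffine (V x : Scheme.{u}) := hV x
    infer_instance) (fun x => ⟨x, hxV x⟩)
  have h1 : IsAffine P.total := by
    have := hV x
    rw [hx] at this
    have h2 : IsAffine ((⊤ : P.total.Opens) : Scheme.{u}) := this
    exact .of_isIso P.total.topIso.inv
  refine ⟨h1, ?_⟩
  have : Nonempty P.total := ⟨x⟩
  have : Nonempty (⊤ : P.total.Opens) := ⟨⟨x, trivial⟩⟩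
  have : Nontrivial Γ(P.total, ⊤) := Scheme.component_nontrivial _ _
  refine IsLocalRing.of_isUnit_or_isUnit_of_isUnit_add fun s t hst => ?_
  obtain ⟨i, hi⟩ := exists_eq_top P hz (ι := ULift Bool)
    (fun i => if i.down then P.total.basicOpen s else P.total.basicOpen t) (fun i => by
      rcases i with ⟨_ | _⟩
      · have : IsAffine (P.total.basicOpen t : Scheme.{u}) := (isAffineOpen_top P.total).basicOpen t
        exact inferInstanceAs (CompactSpace (P.total.basicOpen t : Scheme.{u}))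
      · have : IsAffine (P.total.basicOpen s : Scheme.{u}) := (isAffineOpen_top P.total).basicOpen s
        exact inferInstanceAs (CompactSpace (P.total.basicOpen s : Scheme.{u})))
    (fun x => by
      by_cases hxs : x ∈ P.total.basicOpen s
      · exact ⟨⟨true⟩, hxs⟩
      · refine ⟨⟨false⟩, ?_⟩
        change x ∈ P.total.basicOpen t
        rw [← notMem_prm] at hxs ⊢
        rw [not_not] at hxs
        intro hxt
        exact (prm_isPrime x).ne_top ((prm x).eq_top_of_isUnit_mem (add_mem hxs hxt) hst))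
  rcases i with ⟨_ | _⟩
  · exact Or.inr (isUnit_of_basicOpen_eq_top hi)
  · exact Or.inl (isUnit_of_basicOpen_eq_top hi)

/-- Pairs with affine local total space are local for coverings by minimal open immersions. -/
theorem zarLocal_of_isLocalRing (P : ModPair.Pair.{u}) [IsAffine P.total]
    [IsLocalRing Γ(P.total, ⊤)] : ZarLocal P := by
  intro X ι U v hv hc g
  obtain ⟨i, y, hy⟩ := hc (g.hom (cpt P.total))
  have := (hv i).2.1
  have hmin : (U i).mod = X.mod.comap (v i).hom := (hv i).1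
  have hr : Set.range g.hom ⊆ Set.range (v i).hom := by
    rintro _ ⟨x, rfl⟩
    have h1 : cpt P.total ∈ g.hom ⁻¹ᵁ (v i).hom.opensRange := ⟨y, hy⟩
    exact (specializes_cpt x).mem_open (g.hom ⁻¹ᵁ (v i).hom.opensRange).isOpen h1
  have hl : IsOpenImmersion.lift (v i).hom g.hom hr ≫ (v i).hom = g.hom :=
    IsOpenImmersion.lift_fac _ _ _
  refine ⟨i, ⟨IsOpenImmersion.lift (v i).hom g.hom hr, ?_⟩, ModPair.Pair.Hom.ext hl⟩
  change P.mod ≤ _
  rw [hmin, ← Scheme.IdealSheafData.comap_comp, hl]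
  exact g.cond

end K973.ValPair
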